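import Groth.Agent.TFLangLib.Family
import Groth.Agent.QCohLib.FiniteType

/-!
# From the special fibre to all geometric fibres
-/

set_option autoImplicit false
set_option backward.isDefEq.respectTransparency false
set_option backward.isDefEq.respectTransparency.types false
set_option linter.style.haveILetI false

universe u

open CategoryTheory CategoryTheory.Limits AlgebraicGeometry TopologicalSpace Opposite

noncomputable section

namespace Groth.Agent.TFLangLib

open MeroLib (IsMaxPt)
open PullbackMod TFOneLib DCohLib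

variable {R : Type u} [CommRing R] [IsDomain R] [IsDiscreteValuationRing R] {X : Scheme.{u}}
  {f : X ⟶ Spec (CommRingCat.of R)} [IsProper f] {Xs : Scheme.{u}}
  [Xs.Over (Spec (CommRingCat.of (IsLocalRing.ResidueField R)))] [IsReduced Xs] {i : Xs ⟶ X}
  (hsq : IsPullback i (Xs ↘ Spec (CommRingCat.of (IsLocalRing.ResidueField R))) f
    (Spec.map (CommRingCat.ofHom (IsLocalRing.residue R))))
  (hpure : ∀ C ∈ irreducibleComponents (Xs : Type u), topologicalKrullDim C = 1)
  (hgi : ∀ (C : Set Xs) (hC : C ∈ irreducibleComponents (Xs : Type u)), GeometricallyIntegral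
    (VecSt.subschι Xs C (isClosed_of_mem_irreducibleComponents C hC) ≫
      (Xs ↘ Spec (CommRingCat.of (IsLocalRing.ResidueField R)))))
  {Xg : Scheme.{u}} [Xg.Over (Spec (CommRingCat.of (FractionRing R)))] {j : Xg ⟶ X}
  (hgen : IsPullback j (Xg ↘ Spec (CommRingCat.of (FractionRing R))) f
    (Spec.map (CommRingCat.ofHom (algebraMap R (FractionRing R)))))
  {I M : X.Modules} (hM : Good f i j I M)

omit [IsProper f] [IsReduced Xs] in
include hsq in
/-- A geometric point lies over the generic or over the closed point. -/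
theorem fibre_cases {Ω : Type u} [Field Ω] (t : Spec (CommRingCat.of Ω) ⟶ Spec (CommRingCat.of R)) {Xo : Scheme.{u}}
    {o : Xo ⟶ X} {q : Xo ⟶ Spec (CommRingCat.of Ω)} (ho : IsPullback o q f t) :
    ∃ φ : R →+* Ω, Spec.map (CommRingCat.ofHom φ) = t ∧ IsPullback o q f (Spec.map (CommRingCat.ofHom φ)) ∧
      (Function.Injective φ ∨ ∃ (o' : Xo ⟶ Xs) (χ : IsLocalRing.ResidueField R →+* Ω),
        IsPullback o' q (Xs ↘ Spec (CommRingCat.of (IsLocalRing.ResidueField R))) (Spec.map (CommRingCat.ofHom χ)) ∧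
        o' ≫ i = o ∧ χ.comp (IsLocalRing.residue R) = φ) := by
  obtain ⟨φ', rfl⟩ := Spec.map_surjective t
  refine ⟨φ'.hom, rfl, ho, or_iff_not_imp_left.2 fun hinj => ?_⟩
  have hm : RingHom.ker φ'.hom = IsLocalRing.maximalIdeal R := by
    haveI : (RingHom.ker φ'.hom).IsPrime := RingHom.ker_isPrime _
    exact IsLocalRing.eq_maximalIdeal (IsPrime.to_maximal_ideal
      (fun h => hinj ((RingHom.injective_iff_ker_eq_bot _).2 h)))
  let χ : IsLocalRing.ResidueField R →+* Ω := Ideal.Quotient.lift _ φ'.hom fun a ha => RingHom.mem_ker.1 (hm ▸ ha)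
  have hχ : χ.comp (IsLocalRing.residue R) = φ'.hom := RingHom.ext fun a => rfl
  have hs : Spec.map (CommRingCat.ofHom χ) ≫ Spec.map (CommRingCat.ofHom (IsLocalRing.residue R)) = Spec.map φ' := by
    rw [← Spec.map_comp, ← CommRingCat.ofHom_comp, hχ]
    rfl
  let o' := hsq.lift o (q ≫ Spec.map (CommRingCat.ofHom χ)) (by rw [Category.assoc, hs]; exact ho.w)
  exact ⟨o', χ, IsPullback.of_right (by rw [hsq.lift_fst, hs]; exact ho) (hsq.lift_snd _ _ _) hsq,
    hsq.lift_fst _ _ _, hχ⟩

include hsq hpure hgen hM in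
/-- A module with the hypothesis is relatively torsion-free of rank one. -/
theorem Good.relTF1 (hI : TFOne.IsRelTF1 f I) : TFOne.IsRelTF1 f M := by
  haveI := isProper_special hsq
  haveI : IsLocallyNoetherian X := LocallyOfFiniteType.isLocallyNoetherian f
  refine ⟨hM.flat, QCohLib.isFP_of_isCoh M hM.coh, fun Ω _ _ t Xo o q ho => ?_⟩
  obtain ⟨φ, -, ho', hc⟩ := fibre_cases hsq t ho
  rcases hc with hinj | ⟨o', χ, hq, rfl, -⟩
  · exact hM.gen_tf1 hgen hinj ho' hI
  · letI : Xo.Over (Spec (CommRingCat.of Ω)) := ⟨q⟩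
    exact isTF1_iso ((Scheme.Modules.pullbackComp o' i).app M).symm (isTF1_bc (Y := Xo) (L := Ω) (φ := χ) hq (dim_special hpure) hM.tf)

include hsq hpure hgi hgen hM in
/-- Simplicity of all fibres. -/
theorem Good.fibSimple [Nonempty Xs]
    (hIg : TFOne.FibSimple (Xg ↘ Spec (CommRingCat.of (FractionRing R))) ((Scheme.Modules.pullback j).obj I))
    (hind : Indec ((Scheme.Modules.pullback i).obj M)) : TFOne.FibSimple f M := by
  haveI := isProper_special hsq
  intro Ω _ _ t Xo o q ho
  obtain ⟨φ, -, ho', hc⟩ := fibre_cases hsq t ho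
  rcases hc with hinj | ⟨o', χ, hq, rfl, -⟩
  · exact hM.gen_simple hgen hinj ho' hIg
  · letI : Xo.Over (Spec (CommRingCat.of Ω)) := ⟨q⟩
    exact isSimple_iso q ((Scheme.Modules.pullbackComp o' i).app M).symm
      (isSimple_bc (Y := Xo) (L := Ω) (φ := χ) hq hgi (dim_special hpure) hM.tf hind)

variable {E : X.Modules} {r : ℕ} (hE : FlatMod.IsFinLocFreeOfRank r E)
  (hss : TFOne.IsSemistable Xs (IsLocalRing.ResidueField R) (Xs ↘ Spec (CommRingCat.of (IsLocalRing.ResidueField R)))
    ((Scheme.Modules.pullback i).obj M) ((Scheme.Modules.pullback i).obj E) r)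

include hsq hpure hgi hgen hM hE hss in
/-- Semistability of all fibres. -/
theorem Good.fibSemistable
    (hIg : TFOne.FibSemistable (Xg ↘ Spec (CommRingCat.of (FractionRing R))) ((Scheme.Modules.pullback j).obj I)
      ((Scheme.Modules.pullback j).obj E) r) : TFOne.FibSemistable f M E r := by
  haveI := isProper_special hsq
  intro Ω _ _ t Xo o q ho
  obtain ⟨φ, -, ho', hc⟩ := fibre_cases hsq t ho
  rcases hc with hinj | ⟨o', χ, hq, rfl, -⟩
  · exact hM.gen_semistable hgen hinj ho' hIg
  · letI : Xo.Over (Spec (CommRingCat.of Ω)) := ⟨q⟩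
    haveI : IsProper q := MorphismProperty.of_isPullback (P := @IsProper) ho' inferInstance
    exact isSemistable_iso q ((Scheme.Modules.pullbackComp o' i).app M).symm
      ((Scheme.Modules.pullbackComp o' i).app E).symm
      (semistable_bc (Y := Xo) (L := Ω) (φ := χ) hq hgi (dim_special hpure) (PBundleLib.isFinLocFreeOfRank_pullback i hE) hss).1

include hsq hpure hgi hgen hM hE hss in
/-- Quasi-stability of all fibres along a section. -/
theorem Good.fibQuasistable {σ : Spec (CommRingCat.of R) ⟶ X} (hσ : σ ≫ f = 𝟙 _)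
    {σg : Spec (CommRingCat.of (FractionRing R)) ⟶ Xg}
    {hσg : σg ≫ (Xg ↘ Spec (CommRingCat.of (FractionRing R))) = 𝟙 _}
    (hσgj : σg ≫ j = Spec.map (CommRingCat.ofHom (algebraMap R (FractionRing R))) ≫ σ)
    (hIg : TFOne.FibQuasistableAlong (Xg ↘ Spec (CommRingCat.of (FractionRing R)))
      ((Scheme.Modules.pullback j).obj I) ((Scheme.Modules.pullback j).obj E) σg hσg r)
    {x : Xs} (hx : σ (IsLocalRing.closedPoint R) = i x)
    (hq : ∀ (Z : Set Xs) (hZ : IsClosed Z), VecSt.IsSubcurve Xs Z → Z ≠ Set.univ → x ∈ Z →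
      ∀ (G : Xs.Modules) (π : (Scheme.Modules.pullback i).obj M ⟶ G),
        TFOne.IsQuotOn Xs ((Scheme.Modules.pullback i).obj M) Z G π →
        0 < TFOne.rBeta Xs (IsLocalRing.ResidueField R) (Xs ↘ Spec (CommRingCat.of (IsLocalRing.ResidueField R))) Z hZ
          ((Scheme.Modules.pullback i).obj E) r G) :
    TFOne.FibQuasistableAlong f M E σ hσ r := by
  haveI := isProper_special hsq
  haveI := isClosedImmersion_special hsq
  intro Ω _ _ t Xo o q ho y hy hy'
  obtain ⟨φ, rfl, ho', hc⟩ := fibre_cases hsq t ho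
  rcases hc with hinj | ⟨o', χ, hqs, rfl, hχ⟩
  · exact hM.gen_quasistable hgen hinj ho' hσgj hIg y hy hy'
  · letI : Xo.Over (Spec (CommRingCat.of Ω)) := ⟨q⟩
    haveI : IsProper q := MorphismProperty.of_isPullback (P := @IsProper) ho' inferInstance
    have hqy : o' (y (IsLocalRing.closedPoint Ω)) = x := by
      refine i.isClosedEmbedding.injective ?_
      rw [← hx, ← Scheme.Hom.comp_apply, ← Scheme.Hom.comp_apply, hy, Scheme.Hom.comp_apply,
        ← hχ, CommRingCat.ofHom_comp, Spec.map_comp, Scheme.Hom.comp_apply,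
        spec_map_eq_closedPoint IsLocalRing.residue_surjective]
    exact isQuasistableAtPt_iso q ((Scheme.Modules.pullbackComp o' i).app M).symm
      ((Scheme.Modules.pullbackComp o' i).app E).symm
      ((semistable_bc (Y := Xo) (L := Ω) (φ := χ) hqs hgi (dim_special hpure) (PBundleLib.isFinLocFreeOfRank_pullback i hE) hss).2 _
        fun Z hZ hZs hne hmem => hq Z hZ hZs hne (hqy ▸ hmem))

end Groth.Agent.TFLangLib
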