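import Groth.Agent.TFLangLib.Limit
import Groth.Agent.S18853
import Groth.Agent.S18855

/-!
# Existence of a quasi-stable extension
-/

set_option autoImplicit false
set_option backward.isDefEq.respectTransparency false
set_option backward.isDefEq.respectTransparency.types false
set_option linter.style.haveILetI false

universe u

open CategoryTheory CategoryTheory.Limits AlgebraicGeometry TopologicalSpace Opposite

noncomputable section

namespace Groth.Agent.TFLangLib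

open MeroLib (IsMaxPt)
open PullbackMod TFOneLib DCohLib

variable {R : Type u} [CommRing R] [IsDomain R] [IsDiscreteValuationRing R] {X : Scheme.{u}}
  {f : X ⟶ Spec (CommRingCat.of R)} [IsProper f] [Flat f] {Xs : Scheme.{u}}
  [Xs.Over (Spec (CommRingCat.of (IsLocalRing.ResidueField R)))] [IsReduced Xs] {i : Xs ⟶ X}
  (hsq : IsPullback i (Xs ↘ Spec (CommRingCat.of (IsLocalRing.ResidueField R))) f
    (Spec.map (CommRingCat.ofHom (IsLocalRing.residue R))))
  (hpure : ∀ C ∈ irreducibleComponents (Xs : Type u), topologicalKrullDim C = 1)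
  (hgi : ∀ (C : Set Xs) (hC : C ∈ irreducibleComponents (Xs : Type u)), GeometricallyIntegral
    (VecSt.subschι Xs C (isClosed_of_mem_irreducibleComponents C hC) ≫
      (Xs ↘ Spec (CommRingCat.of (IsLocalRing.ResidueField R)))))
  {Xg : Scheme.{u}} [Xg.Over (Spec (CommRingCat.of (FractionRing R)))] {j : Xg ⟶ X}
  (hgen : IsPullback j (Xg ↘ Spec (CommRingCat.of (FractionRing R))) f
    (Spec.map (CommRingCat.ofHom (algebraMap R (FractionRing R)))))
  {I : X.Modules} {E : X.Modules} {r : ℕ} (hr : 0 < r) (hE : FlatMod.IsFinLocFreeOfRank r E) {d : ℤ}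
  (hχ : Curv2.euler (IsLocalRing.ResidueField R) Xs ((Scheme.Modules.pullback i).obj I) = d)
  (hEd : Curv2.deg (IsLocalRing.ResidueField R) Xs ((Scheme.Modules.pullback i).obj E) r = -(r : ℤ) * d)

include hsq hpure hgen hE hχ hEd in
/-- A modification along a subcurve with number zero preserves semistability. -/
theorem semistable_step {M : X.Modules} (hM : Good f i j I M)
    (hss : TFOne.IsSemistable Xs (IsLocalRing.ResidueField R)
      (Xs ↘ Spec (CommRingCat.of (IsLocalRing.ResidueField R))) ((Scheme.Modules.pullback i).obj M)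
      ((Scheme.Modules.pullback i).obj E) r)
    {Y : Set Xs} (hY : IsUC Xs Y) {G : Xs.Modules} {π : (Scheme.Modules.pullback i).obj M ⟶ G}
    (hG : TFOne.IsQuotOn Xs ((Scheme.Modules.pullback i).obj M) Y G π)
    (h0 : beta (IsLocalRing.ResidueField R) ((Scheme.Modules.pullback i).obj E) r
      ((Scheme.Modules.pullback i).obj M) Y = 0) :
    TFOne.IsSemistable Xs (IsLocalRing.ResidueField R)
      (Xs ↘ Spec (CommRingCat.of (IsLocalRing.ResidueField R)))
      ((Scheme.Modules.pullback i).obj (kernel ((Scheme.Modules.pullbackPushforwardAdjunction i).unit.app M ≫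
        (Scheme.Modules.pushforward i).map π))) ((Scheme.Modules.pullback i).obj E) r := by
  obtain ⟨hp, hdim, hEs, α, β, hJ⟩ := TFOneLib.setup hsq hpure hM.coh hM.flat hE hG rfl
  haveI := hp
  haveI := EulerIneqLib.isNoetherian_proper (X := Xs) (IsLocalRing.ResidueField R)
  have hg := hM.step hsq hpure hgen hG
  refine (isSemistable_iff_beta _ hdim hEs hg.tf).2 fun Z hZ _ => ?_
  have hZu := isUC_of_isSubcurve hZ
  have hUu := isUC_union hY hZu
  have hWu : IsUC Xs (Set.sUnion {C | C ∈ irreducibleComponents (Xs : Type u) ∧ C ⊆ Y ∩ Z}) := isUC_sep _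
  obtain ⟨GZ, pZ, hGZ⟩ := exists_quotUC hg.tf hZu
  obtain ⟨GW, πW, hGW⟩ := exists_quotUC hM.tf hWu
  obtain ⟨GU, πU, hGU⟩ := exists_quotUC hM.tf hUu
  have h := hJ.rBeta_ineq (k := IsLocalRing.ResidueField R) hM.tf hG hdim hEs hY.isClosed hZu.isClosed hWu.isClosed
    hUu.isClosed hGZ hGW hGU (fun η hη => mem_meet_iff hY hZu hη) (fun η _ => Set.mem_union η Y Z)
  rw [beta_eq _ hdim hEs hM.tf hY.isClosed hG, beta_eq _ hdim hEs hg.tf hZu.isClosed hGZ,
    beta_eq _ hdim hEs hM.tf hWu.isClosed hGW, beta_eq _ hdim hEs hM.tf hUu.isClosed hGU, h0] at h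
  have h1 := beta_nonneg_of_semistable (IsLocalRing.ResidueField R) hdim hEs hM.tf (hM.euler.trans hχ) hEd hss hWu
  have h2 := beta_nonneg_of_semistable (IsLocalRing.ResidueField R) hdim hEs hM.tf (hM.euler.trans hχ) hEd hss hUu
  omega

include hsq hpure hgi hgen hr hE hχ hEd in
/-- Langton: from a semistable extension to a quasi-stable one along a section through one component. -/
theorem exists_quasistable
    {M₁ : X.Modules} (hM₁ : Good f i j I M₁) (hss₁ : TFOne.IsSemistable Xs (IsLocalRing.ResidueField R)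
      (Xs ↘ Spec (CommRingCat.of (IsLocalRing.ResidueField R))) ((Scheme.Modules.pullback i).obj M₁)
      ((Scheme.Modules.pullback i).obj E) r)
    {σ : Spec (CommRingCat.of R) ⟶ X} (hσ : σ ≫ f = 𝟙 _)
    {σg : Spec (CommRingCat.of (FractionRing R)) ⟶ Xg}
    {hσg : σg ≫ (Xg ↘ Spec (CommRingCat.of (FractionRing R))) = 𝟙 _}
    (hσgj : σg ≫ j = Spec.map (CommRingCat.ofHom (algebraMap R (FractionRing R))) ≫ σ)
    (hIgs : TFOne.FibSemistable (Xg ↘ Spec (CommRingCat.of (FractionRing R))) ((Scheme.Modules.pullback j).obj I)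
      ((Scheme.Modules.pullback j).obj E) r)
    (hIg : TFOne.FibQuasistableAlong (Xg ↘ Spec (CommRingCat.of (FractionRing R)))
      ((Scheme.Modules.pullback j).obj I) ((Scheme.Modules.pullback j).obj E) σg hσg r)
    {x η₀ : Xs} (hx : σ (IsLocalRing.closedPoint R) = i x) (hη₀ : IsMaxPt η₀) (hη₀x : η₀ ⤳ x)
    (huniq : ∀ η, IsMaxPt η → η ⤳ x → η = η₀) :
    ∃ M, Good f i j I M ∧ TFOne.IsSemistable Xs (IsLocalRing.ResidueField R)
      (Xs ↘ Spec (CommRingCat.of (IsLocalRing.ResidueField R))) ((Scheme.Modules.pullback i).obj M)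
      ((Scheme.Modules.pullback i).obj E) r ∧
      ∀ (Z : Set Xs) (hZ : IsClosed Z), VecSt.IsSubcurve Xs Z → Z ≠ Set.univ → x ∈ Z →
        ∀ (G : Xs.Modules) (π : (Scheme.Modules.pullback i).obj M ⟶ G),
          TFOne.IsQuotOn Xs ((Scheme.Modules.pullback i).obj M) Z G π →
          0 < TFOne.rBeta Xs (IsLocalRing.ResidueField R) (Xs ↘ Spec (CommRingCat.of (IsLocalRing.ResidueField R)))
            Z hZ ((Scheme.Modules.pullback i).obj E) r G := by
  classical
  haveI := isProper_special hsq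
  haveI := EulerIneqLib.isNoetherian_proper (X := Xs) (IsLocalRing.ResidueField R)
  let κ := IsLocalRing.ResidueField R
  have hdim := dim_special hpure
  have hEs := PBundleLib.isFinLocFreeOfRank_pullback i hE
  by_contra hns
  push Not at hns
  let SS : X.Modules → Prop := fun M => Good f i j I M ∧ TFOne.IsSemistable Xs κ (Xs ↘ Spec (CommRingCat.of κ))
    ((Scheme.Modules.pullback i).obj M) ((Scheme.Modules.pullback i).obj E) r
  let b : X.Modules → Set Xs → ℤ := fun M T =>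
    beta κ ((Scheme.Modules.pullback i).obj E) r ((Scheme.Modules.pullback i).obj M) T
  have hnn : ∀ {M}, SS M → ∀ {T}, IsUC Xs T → 0 ≤ b M T := fun {M} h {T} hT =>
    beta_nonneg_of_semistable κ hdim hEs h.1.tf (h.1.euler.trans hχ) hEd h.2 hT
  have hthru : ∀ {T}, IsUC Xs T → (x ∈ T ↔ η₀ ∈ T) := fun {T} hT => by
    refine ⟨fun h => ?_, fun h => hη₀x.mem_closed hT.isClosed h⟩
    obtain ⟨S, hS, e⟩ := id hT
    obtain ⟨η, hη, hηT, hs⟩ := exists_maxPt_specializes hS e x h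
    exact huniq η hη hs ▸ hηT
  let D : X.Modules → Set Xs → Prop := fun M Y => SS M ∧ VecSt.IsSubcurve Xs Y ∧ η₀ ∈ Y ∧ Y ≠ Set.univ ∧
    b M Y = 0 ∧ ∀ T, VecSt.IsSubcurve Xs T → η₀ ∈ T → b M T = 0 → Y ⊆ T
  have hfin : {T : Set Xs | VecSt.IsSubcurve Xs T}.Finite :=
    (IsUC.finite (X := Xs)).subset fun T h => isUC_of_isSubcurve h
  have hexD : ∀ M, SS M → ∃ Y, D M Y := fun M hM => by
    obtain ⟨Z, hZc, hZs, hne, hxZ, G, π, hG, hle⟩ := hns M hM.1 hM.2
    have hZu := isUC_of_isSubcurve hZs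
    rw [beta_eq κ hdim hEs hM.1.tf hZc hG] at hle
    let S := {T : Set Xs | VecSt.IsSubcurve Xs T ∧ η₀ ∈ T ∧ b M T = 0}
    have hZS : Z ∈ S := ⟨hZs, (hthru hZu).1 hxZ, le_antisymm hle (hnn hM hZu)⟩
    obtain ⟨Y, hY⟩ := Set.Finite.exists_minimal (s := {T | T ∈ S ∧ T ⊆ Z}) (hfin.subset fun T h => h.1.1)
      ⟨Z, hZS, subset_rfl⟩
    obtain ⟨⟨hYs, hYη, hYb⟩, hYle⟩ := hY.1
    refine ⟨Y, hM, hYs, hYη, fun h => hne (Set.eq_univ_of_univ_subset (h ▸ hYle)), hYb, fun T hT hTη hTb => ?_⟩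
    have hYu := isUC_of_isSubcurve hYs
    have hTu := isUC_of_isSubcurve hT
    have hsub := beta_union_le κ hdim hEs hM.1.tf hYu hTu
    have hWu : IsUC Xs (Set.sUnion {C | C ∈ irreducibleComponents (Xs : Type u) ∧ C ⊆ Y ∩ T}) := isUC_sep _
    have h1 := hnn hM (isUC_union hYu hTu)
    have h2 := hnn hM hWu
    have hWη := (mem_meet_iff hYu hTu hη₀).2 ⟨hYη, hTη⟩
    have hWb : b M (Set.sUnion {C | C ∈ irreducibleComponents (Xs : Type u) ∧ C ⊆ Y ∩ T}) = 0 := by
      simp only [b] at hYb hTb h1 h2 ⊢; omega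
    have hWY : Set.sUnion {C | C ∈ irreducibleComponents (Xs : Type u) ∧ C ⊆ Y ∩ T} ⊆ Y ∩ T :=
      Set.sUnion_subset fun C hC => hC.2
    exact (hY.le_of_le (y := Set.sUnion _) ⟨⟨hWu.isSubcurve hWη, hWη, hWb⟩, (hWY.trans Set.inter_subset_left).trans hYle⟩
      (hWY.trans Set.inter_subset_left)).trans
      (hWY.trans Set.inter_subset_right)
  have hW : closure ({η₀} : Set Xs) ∈ irreducibleComponents (Xs : Type u) := (isMaxPt_iff_genericPoints η₀).1 hη₀
  have hWT : ∀ {T : Set Xs}, IsClosed T → (closure {η₀} ⊆ T ↔ η₀ ∈ T) := fun hT => closure_subset_iff hT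
  -- an extremal state
  let 𝒴 := {Y : Set Xs | ∃ M, D M Y}
  obtain ⟨Y, hY⟩ := Set.Finite.exists_maximal (s := 𝒴) (hfin.subset fun T ⟨M, h⟩ => h.2.1)
    (by obtain ⟨Y, h⟩ := hexD M₁ ⟨hM₁, hss₁⟩; exact ⟨Y, M₁, h⟩)
  obtain ⟨M₀, hD₀⟩ := hY.1
  have hYuc := isUC_of_isSubcurve hD₀.2.1
  let Y' := Set.sUnion {C | C ∈ irreducibleComponents (Xs : Type u) ∧ ¬ C ⊆ Y}
  have hY' : ∀ η : Xs, IsMaxPt η → (η ∈ Y' ↔ η ∉ Y) := fun η hη => mem_union_iff_of_maxPt hη hYuc.isClosed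
  let Dec : X.Modules → Prop := fun M => ∃ (G G' : Xs.Modules) (π : (Scheme.Modules.pullback i).obj M ⟶ G)
    (π' : (Scheme.Modules.pullback i).obj M ⟶ G'), TFOne.IsQuotOn Xs ((Scheme.Modules.pullback i).obj M) Y G π ∧
    TFOne.IsQuotOn Xs ((Scheme.Modules.pullback i).obj M) Y' G' π' ∧ IsIso (biprod.lift π π')
  have hQ : ∀ {M}, D M Y → ∀ {G : Xs.Modules} {π : (Scheme.Modules.pullback i).obj M ⟶ G},
      TFOne.IsQuotOn Xs ((Scheme.Modules.pullback i).obj M) Y G π →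
      D (kernel ((Scheme.Modules.pullbackPushforwardAdjunction i).unit.app M ≫
          (Scheme.Modules.pushforward i).map π)) Y ∧
        Dec (kernel ((Scheme.Modules.pullbackPushforwardAdjunction i).unit.app M ≫
          (Scheme.Modules.pushforward i).map π)) := by
    intro M hD G π hG
    obtain ⟨hM, hYs, hYη, hne, hYb, hYmin⟩ := hD
    have hg := hM.1.step hsq hpure hgen hG
    obtain ⟨Z, hZ⟩ := hexD _ ⟨hg, semistable_step hsq hpure hgen hE hχ hEd hM.1 hM.2 hYuc hG hYb⟩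
    obtain ⟨hZ1, hZs, hZη, hZne, hZb, hZmin⟩ := id hZ
    have hZuc := isUC_of_isSubcurve hZs
    obtain ⟨GZ, πZ, hGZ⟩ := exists_quotUC hg.tf hZuc
    have hsub := Groth.Agent.S18853.result R X f Xs i hsq hpure hgi M hM.1.coh hM.1.flat hM.1.tf E r hr hE d
      (hM.1.euler.trans hχ) hEd hM.2 Y hYuc.isClosed hYs G π hG _ rfl (closure {η₀}) hW
      ((hWT hYuc.isClosed).2 hYη) (by rw [beta_eq κ hdim hEs hM.1.tf hYuc.isClosed hG]; exact hYb)
      (fun T hT hTs hWsub G' π' hG' h0 => hYmin T hTs ((hWT hT).1 hWsub) (by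
        rw [beta_eq κ hdim hEs hM.1.tf hT hG'] at h0; exact h0))
      Z hZuc.isClosed hZs ((hWT hZuc.isClosed).2 hZη) GZ πZ hGZ
      (by rw [beta_eq κ hdim hEs hg.tf hZuc.isClosed hGZ]; exact hZb)
      (fun T hT hTs hWsub G' π' hG' h0 => hZmin T hTs ((hWT hT).1 hWsub) (by
        rw [beta_eq κ hdim hEs hg.tf hT hG'] at h0; exact h0))
    obtain rfl : Z = Y := (hY.le_of_ge (y := Z) ⟨_, hZ⟩ hsub).antisymm hsub
    refine ⟨hZ, ?_⟩
    obtain ⟨G₂, π₂, hG₂⟩ := exists_quotUC hg.tf (T := Y') (isUC_sep _)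
    exact ⟨GZ, G₂, πZ, π₂, hGZ, hG₂, (Groth.Agent.S18855.result R X f Xs i hsq hpure hgi M hM.1.coh hM.1.flat hM.1.tf
      E r hr hE d (hM.1.euler.trans hχ) hEd hM.2 _ hYuc.isClosed hYs G π hG _ rfl hne (closure {η₀}) hW
      ((hWT hYuc.isClosed).2 hYη) (by rw [beta_eq κ hdim hEs hM.1.tf hYuc.isClosed hG]; exact hYb)
      (fun T hT hTs hWsub G' π' hG' h0 => hYmin T hTs ((hWT hT).1 hWsub) (by
        rw [beta_eq κ hdim hEs hM.1.tf hT hG'] at h0; exact h0))
      _ hZuc.isClosed hZs ((hWT hZuc.isClosed).2 hZη) GZ πZ hGZ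
      (by rw [beta_eq κ hdim hEs hg.tf hZuc.isClosed hGZ]; exact hZb)
      (fun T hT hTs hWsub G' π' hG' h0 => hZmin T hTs ((hWT hT).1 hWsub) (by
        rw [beta_eq κ hdim hEs hg.tf hT hG'] at h0; exact h0))
      Y' rfl (isUC_sep _).isClosed GZ G₂ πZ π₂ hGZ hG₂).1 rfl⟩
  obtain ⟨G₀, π₀, hG₀⟩ := exists_quotUC hD₀.1.1.tf hYuc
  have hstart := hQ hD₀ hG₀
  obtain ⟨ξ, hξ, hξY⟩ := hYuc.exists_maxPt_notMem hD₀.2.2.2.1
  refine (limit_bound (P := fun M => D M Y ∧ Dec M) hsq hpure hgi hgen hY' ?_ (fun M h => h.1.1.1) hstart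
    hYuc.isClosed hE hχ hEd hIgs).2 hr (hstart.1.2.2.2.2.1).le x ξ ?_ hξY σ hσ hx σg hσg hσgj hIg
  · rintro M ⟨hD, G, G', π, π', hG, hG', hdec⟩
    exact ⟨G, G', π, π', hG, hG', hdec, hQ hD hG⟩
  · exact fun h => (hY' η₀ hη₀).1 ((hthru (isUC_sep _)).1 h) hD₀.2.2.1

end Groth.Agent.TFLangLib
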