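import Groth.Agent.TFLangLib.Limit
import Groth.Agent.TFLangLib.Quasi

/-!
# Existence of a simple extension
-/

set_option autoImplicit false
set_option backward.isDefEq.respectTransparency false
set_option backward.isDefEq.respectTransparency.types false
set_option linter.style.haveILetI false

universe u

open CategoryTheory CategoryTheory.Limits AlgebraicGeometry TopologicalSpace Opposite

noncomputable section

namespace Groth.Agent.TFLangLib

open MeroLib (IsMaxPt)
open PullbackMod TFOneLib DCohLib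

/-- The numbers of a decomposition add up. -/
theorem beta_add_of_isIso {k : Type u} [Field k] {X : Scheme.{u}} [X.Over (Spec (CommRingCat.of k))] [IsReduced X]
    [IsProper (X ↘ Spec (CommRingCat.of k))] (hdim : topologicalKrullDim X ≤ 1) {E M : X.Modules} {r : ℕ}
    (hE : FlatMod.IsFinLocFreeOfRank r E) (hM : TFOne.IsTF1 X M) {A B : Set X} (hA : IsClosed A) (hB : IsClosed B)
    {G G' : X.Modules} {π : M ⟶ G} {π' : M ⟶ G'} (hG : TFOne.IsQuotOn X M A G π) (hG' : TFOne.IsQuotOn X M B G' π')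
    [IsIso (biprod.lift π π')] : beta k E r M A + beta k E r M B = beta k E r M Set.univ := by
  haveI := EulerIneqLib.isNoetherian_proper (X := X) k
  rw [← beta_eq k hdim hE hM hA hG, ← beta_eq k hdim hE hM hB hG', ← beta_eq k hdim hE hM isClosed_univ (isQuotOn_univ hM),
    rBeta_eq_tw hdim hE hM.2.2 hA hG, rBeta_eq_tw hdim hE hM.2.2 hB hG',
    rBeta_eq_tw hdim hE hM.2.2 isClosed_univ (isQuotOn_univ hM), tw_iso E (asIso (biprod.lift π π'))]
  exact (tw_add hE (ShortComplex.Splitting.ofHasBinaryBiproduct G G').shortExact hG.2.1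
    (FormalSys.isCoh_biprod hG.2.1 hG'.2.1) hG'.2.1).symm

variable {R : Type u} [CommRing R] [IsDomain R] [IsDiscreteValuationRing R] {X : Scheme.{u}}
  {f : X ⟶ Spec (CommRingCat.of R)} [IsProper f] [Flat f] {Xs : Scheme.{u}}
  [Xs.Over (Spec (CommRingCat.of (IsLocalRing.ResidueField R)))] [IsReduced Xs] {i : Xs ⟶ X}
  (hsq : IsPullback i (Xs ↘ Spec (CommRingCat.of (IsLocalRing.ResidueField R))) f
    (Spec.map (CommRingCat.ofHom (IsLocalRing.residue R))))
  (hpure : ∀ C ∈ irreducibleComponents (Xs : Type u), topologicalKrullDim C = 1)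
  (hgi : ∀ (C : Set Xs) (hC : C ∈ irreducibleComponents (Xs : Type u)), GeometricallyIntegral
    (VecSt.subschι Xs C (isClosed_of_mem_irreducibleComponents C hC) ≫
      (Xs ↘ Spec (CommRingCat.of (IsLocalRing.ResidueField R)))))
  {Xg : Scheme.{u}} [Xg.Over (Spec (CommRingCat.of (FractionRing R)))] {j : Xg ⟶ X}
  (hgen : IsPullback j (Xg ↘ Spec (CommRingCat.of (FractionRing R))) f
    (Spec.map (CommRingCat.ofHom (algebraMap R (FractionRing R)))))
  {I : X.Modules}

include hsq hgen in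
omit [IsReduced Xs] in
/-- The special fibre is non-empty when the generic fibre carries a simple module. -/
theorem nonempty_special
    (hIg : TFOne.FibSimple (Xg ↘ Spec (CommRingCat.of (FractionRing R))) ((Scheme.Modules.pullback j).obj I)) :
    Nonempty Xs := by
  obtain ⟨Ω, _, _, φ, Xo, o, q, hφ, ho, -⟩ := exists_generic (f := f) IsLocalRing.residue_surjective hsq
  obtain ⟨o', χ, ho', -, -⟩ := exists_factor_generic hgen hφ ho
  obtain ⟨z⟩ : Nonempty Xo := by
    by_contra h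
    exact (hIg Ω _ Xo o' q ho').1 (isZero_of_support fun z => (h ⟨z⟩).elim)
  exact ⟨(exists_specializes IsLocalRing.residue_surjective hsq (o z)).choose⟩

include hsq hpure hgi hgen in
/-- Langton: a class stable under decomposed modifications contains a module indecomposable on the special fibre. -/
theorem exists_indec (hI : TFOne.IsRelTF1 f I)
    (hIg : TFOne.FibSimple (Xg ↘ Spec (CommRingCat.of (FractionRing R))) ((Scheme.Modules.pullback j).obj I))
    {C : X.Modules → Prop} (hC : ∀ M, C M → Good f i j I M) (hne : ∃ M, C M)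
    (hstep : ∀ M, C M → ∀ (A B : Set Xs) (G G' : Xs.Modules) (π : (Scheme.Modules.pullback i).obj M ⟶ G)
      (π' : (Scheme.Modules.pullback i).obj M ⟶ G'), IsUC Xs A → IsUC Xs B →
      TFOne.IsQuotOn Xs ((Scheme.Modules.pullback i).obj M) A G π →
      TFOne.IsQuotOn Xs ((Scheme.Modules.pullback i).obj M) B G' π' → IsIso (biprod.lift π π') →
      C (kernel ((Scheme.Modules.pullbackPushforwardAdjunction i).unit.app M ≫ (Scheme.Modules.pushforward i).map π))) :
    ∃ M, C M ∧ Indec ((Scheme.Modules.pullback i).obj M) := by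
  classical
  haveI := isProper_special hsq
  haveI := isClosedImmersion_special hsq
  haveI := EulerIneqLib.isNoetherian_proper (X := Xs) (IsLocalRing.ResidueField R)
  haveI : IsLocallyNoetherian X := LocallyOfFiniteType.isLocallyNoetherian f
  obtain ⟨η₀, hη₀⟩ : ∃ η : Xs, IsMaxPt η := by
    obtain ⟨x⟩ := nonempty_special hsq hgen hIg
    obtain ⟨η, hη, -⟩ := PicCurveLib.exists_genPt x
    exact ⟨η, (isMaxPt_iff_genericPoints η).2 hη⟩
  by_contra hns
  push Not at hns
  let S : X.Modules → Set Xs := fun M => {η | IsMaxPt η ∧ ∀ e : (Scheme.Modules.pullback i).obj M ⟶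
    (Scheme.Modules.pullback i).obj M, e ≫ e = e → stalkLin e η₀ = LinearMap.id → stalkLin e η = LinearMap.id}
  have hfin : {η : Xs | IsMaxPt η}.Finite :=
    (PicCurveLib.finite_genPts (Y := Xs)).subset fun η hη => (isMaxPt_iff_genericPoints η).1 hη
  obtain ⟨S₀, hS⟩ := Set.Finite.exists_maximal (s := {T | ∃ M, C M ∧ S M = T})
    (hfin.finite_subsets.subset fun T ⟨M, _, h⟩ η hη => (h ▸ hη : η ∈ S M).1)
    (hne.elim fun M hM => ⟨S M, M, hM, rfl⟩)
  obtain ⟨M₀, hM₀, hS₀⟩ := hS.1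
  let Y := Set.sUnion {D | D ∈ irreducibleComponents (Xs : Type u) ∧ ∃ η ∈ S₀, D = closure {η}}
  have hYu : IsUC Xs Y := isUC_sep _
  have hY : ∀ η : Xs, IsMaxPt η → (η ∈ Y ↔ η ∈ S₀) := fun η hη => by
    rw [mem_sUnion_iff ((isMaxPt_iff_genericPoints η).1 hη) (p := fun D => ∃ η' ∈ S₀, D = closure {η'})]
    refine ⟨fun ⟨η', hη', he⟩ => ?_, fun h => ⟨η, h, rfl⟩⟩
    have : η' ⤳ η := specializes_iff_mem_closure.2 (he ▸ subset_closure rfl)
    exact hη η' this ▸ hη'
  let Y' := Set.sUnion {D | D ∈ irreducibleComponents (Xs : Type u) ∧ ¬ D ⊆ Y}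
  have hY'u : IsUC Xs Y' := isUC_sep _
  have hY' : ∀ η : Xs, IsMaxPt η → (η ∈ Y' ↔ η ∉ Y) := fun η hη => mem_union_iff_of_maxPt hη hYu.isClosed
  have hη₀Y : η₀ ∈ Y := (hY η₀ hη₀).2 (hS₀ ▸ ⟨hη₀, fun e _ h => h⟩)
  -- the minimal idempotent of a member with the extremal set
  have hmin : ∀ {M}, C M → S M = S₀ → ∃ e : (Scheme.Modules.pullback i).obj M ⟶ (Scheme.Modules.pullback i).obj M,
      e ≫ e = e ∧ ∀ η, IsMaxPt η → (η ∈ Y → stalkLin e η = LinearMap.id) ∧ (η ∉ Y → stalkLin e η = 0) := by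
    intro M hM hSM
    obtain ⟨e, he, he₀, hle⟩ := exists_min_idem (hC M hM).tf hη₀
    refine ⟨e, he, fun η hη => ⟨fun h => ((hSM.symm ▸ (hY η hη).1 h : η ∈ S M)).2 e he he₀, fun h => ?_⟩⟩
    rcases idem_stalk (hC M hM).tf he hη with h0 | h1
    · exact h0
    · exact absurd ((hY η hη).2 (hSM ▸ ⟨hη, fun e' he' h' => hle e' he' h' η hη h1⟩)) h
  have hdec : ∀ {M}, C M → S M = S₀ → ∀ {G G' : Xs.Modules} {π : (Scheme.Modules.pullback i).obj M ⟶ G}
      {π' : (Scheme.Modules.pullback i).obj M ⟶ G'}, TFOne.IsQuotOn Xs ((Scheme.Modules.pullback i).obj M) Y G π →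
      TFOne.IsQuotOn Xs ((Scheme.Modules.pullback i).obj M) Y' G' π' → IsIso (biprod.lift π π') := by
    intro M hM hSM G G' π π' hG hG'
    obtain ⟨e, -, he⟩ := hmin hM hSM
    exact isIso_lift_of_idem (hC M hM).tf hG hG' hY' (e := e) (fun η hη => (he η hη).1) fun η hη => (he η hη).2
  have hkeep : ∀ {M}, C M → S M = S₀ → ∀ {A : Set Xs} {G : Xs.Modules}
      {π : (Scheme.Modules.pullback i).obj M ⟶ G}, TFOne.IsQuotOn Xs ((Scheme.Modules.pullback i).obj M) A G π →
      ∀ {ε : (Scheme.Modules.pullback i).obj M ⟶ (Scheme.Modules.pullback i).obj M},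
      (∀ η, IsMaxPt η → η ∈ A → stalkLin ε η = LinearMap.id) → (∀ η, IsMaxPt η → η ∉ A → stalkLin ε η = 0) →
      C (kernel ((Scheme.Modules.pullbackPushforwardAdjunction i).unit.app M ≫ (Scheme.Modules.pushforward i).map π)) →
      S (kernel ((Scheme.Modules.pullbackPushforwardAdjunction i).unit.app M ≫ (Scheme.Modules.pushforward i).map π)) =
        S₀ := by
    intro M hM hSM A G π hG ε hε1 hε0 hCk
    obtain ⟨t, ht⟩ := IsDiscreteValuationRing.exists_irreducible R
    haveI := hG.1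
    obtain ⟨hc', α, β, h⟩ := exists_modif i hsq ht.ne_zero IsLocalRing.residue_surjective
      (by rw [IsLocalRing.ker_residue, ht.maximalIdeal_eq]) (hC M hM).coh (hC M hM).flat hG.2.1 π
      (I' := kernel _) rfl
    have hJ : IsModif π α β := ⟨hc', fun x => (h x).1, fun x => (h x).2.1, fun x => (h x).2.2⟩
    have hsub : S₀ ⊆ S (kernel ((Scheme.Modules.pullbackPushforwardAdjunction i).unit.app M ≫
        (Scheme.Modules.pushforward i).map π)) := fun η hη => by
      have hηM : η ∈ S M := hSM.symm ▸ hη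
      refine ⟨hηM.1, fun e he he₀ => ?_⟩
      obtain ⟨e', he', hiff⟩ := exists_idem_of_modif (hC M hM).tf hG hJ hε1 hε0 he
      exact (hiff η hηM.1).1 (hηM.2 e' he' ((hiff η₀ hη₀).2 he₀))
    exact (hS.le_of_ge (y := S _) ⟨_, hCk, rfl⟩ hsub).antisymm hsub
  -- both stable classes
  have hstable : IsStableClass i Y Y' (fun M => C M ∧ S M = S₀) := fun M hM => by
    obtain ⟨G, π, hG⟩ := exists_quotUC (hC M hM.1).tf hYu
    obtain ⟨G', π', hG'⟩ := exists_quotUC (hC M hM.1).tf hY'u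
    have hi := hdec hM.1 hM.2 hG hG'
    obtain ⟨e, -, he⟩ := hmin hM.1 hM.2
    have hCk := hstep M hM.1 Y Y' G G' π π' hYu hY'u hG hG' hi
    exact ⟨G, G', π, π', hG, hG', hi, hCk,
      hkeep hM.1 hM.2 hG (ε := e) (fun η hη => (he η hη).1) (fun η hη => (he η hη).2) hCk⟩
  have hstable' : IsStableClass i Y' Y (fun M => C M ∧ S M = S₀) := fun M hM => by
    obtain ⟨G, π, hG⟩ := exists_quotUC (hC M hM.1).tf hY'u
    obtain ⟨G', π', hG'⟩ := exists_quotUC (hC M hM.1).tf hYu
    haveI := hdec hM.1 hM.2 hG' hG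
    have hi : IsIso (biprod.lift π π') := by
      rw [show biprod.lift π π' = biprod.lift π' π ≫ (biprod.braiding G' G).hom from
        biprod.hom_ext _ _ (by simp) (by simp)]
      infer_instance
    obtain ⟨e, -, he⟩ := hmin hM.1 hM.2
    have hCk := hstep M hM.1 Y' Y G G' π π' hY'u hYu hG hG' hi
    refine ⟨G, G', π, π', hG, hG', hi, hCk, hkeep hM.1 hM.2 hG (ε := 𝟙 _ - e) (fun η hη h => ?_) (fun η hη h => ?_) hCk⟩
    · rw [stalkLin_sub, stalkLin_id, (he η hη).2 ((hY' η hη).1 h), sub_zero]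
    · rw [stalkLin_sub, stalkLin_id, (he η hη).1 (not_not.1 fun h' => h ((hY' η hη).2 h')), sub_self]
  obtain ⟨e, he, hne0, hne1⟩ : ∃ e : (Scheme.Modules.pullback i).obj M₀ ⟶ (Scheme.Modules.pullback i).obj M₀,
      e ≫ e = e ∧ e ≠ 0 ∧ e ≠ 𝟙 _ := by
    have h := hns M₀ hM₀
    rw [Indec] at h
    push Not at h
    exact h
  obtain ⟨ξ, hξ, hξY⟩ : ∃ ξ, IsMaxPt ξ ∧ ξ ∉ Y := by
    by_contra hh
    push Not at hh
    have hall : ∀ η, IsMaxPt η → η ∈ S M₀ := fun η hη => hS₀.symm ▸ (hY η hη).1 (hh η hη)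
    haveI := (hC M₀ hM₀).coh.1
    haveI := (hC M₀ hM₀).tf.1.1
    rcases idem_stalk (hC M₀ hM₀).tf he hη₀ with h0 | h1
    · refine hne0 (hom_ext_maxPt (hC M₀ hM₀).tf.2.1 fun η hη => ?_)
      have hd := (hall η hη).2 (𝟙 _ - e) (by simp [Preadditive.sub_comp, Preadditive.comp_sub, he])
        (by rw [stalkLin_sub, stalkLin_id, h0, sub_zero])
      rw [stalkLin_sub, stalkLin_id, sub_eq_self] at hd
      rw [hd, stalkLin_zero]
    · exact hne1 (hom_ext_maxPt (hC M₀ hM₀).tf.2.1 fun η hη => by rw [(hall η hη).2 e he h1, stalkLin_id])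
  exact limit_simple hsq hpure hgi hgen hY' hstable (fun M h => hC M h.1) ⟨hM₀, hS₀⟩ hstable' (fun M h => hC M h.1)
    ⟨hM₀, hS₀⟩ (fun h => (hY' η₀ hη₀).1 h hη₀Y) hξY hI hIg

end Groth.Agent.TFLangLib
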