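import Groth.Agent.TFLangLib.Limit
import Groth.Agent.S18847
import Groth.Agent.S18854

/-!
# Existence of a semistable extension
-/

set_option autoImplicit false
set_option backward.isDefEq.respectTransparency false
set_option backward.isDefEq.respectTransparency.types false
set_option linter.style.haveILetI false

universe u

open CategoryTheory CategoryTheory.Limits AlgebraicGeometry TopologicalSpace Opposite

noncomputable section

namespace Groth.Agent.TFLangLib

open MeroLib (IsMaxPt)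
open PullbackMod TFOneLib DCohLib

variable {R : Type u} [CommRing R] [IsDomain R] [IsDiscreteValuationRing R] {X : Scheme.{u}}
  {f : X ⟶ Spec (CommRingCat.of R)} [IsProper f] [Flat f] {Xs : Scheme.{u}}
  [Xs.Over (Spec (CommRingCat.of (IsLocalRing.ResidueField R)))] [IsReduced Xs] {i : Xs ⟶ X}
  (hsq : IsPullback i (Xs ↘ Spec (CommRingCat.of (IsLocalRing.ResidueField R))) f
    (Spec.map (CommRingCat.ofHom (IsLocalRing.residue R))))
  (hpure : ∀ C ∈ irreducibleComponents (Xs : Type u), topologicalKrullDim C = 1)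
  (hgi : ∀ (C : Set Xs) (hC : C ∈ irreducibleComponents (Xs : Type u)), GeometricallyIntegral
    (VecSt.subschι Xs C (isClosed_of_mem_irreducibleComponents C hC) ≫
      (Xs ↘ Spec (CommRingCat.of (IsLocalRing.ResidueField R)))))
  {Xg : Scheme.{u}} [Xg.Over (Spec (CommRingCat.of (FractionRing R)))] {j : Xg ⟶ X}
  (hgen : IsPullback j (Xg ↘ Spec (CommRingCat.of (FractionRing R))) f
    (Spec.map (CommRingCat.ofHom (algebraMap R (FractionRing R)))))
  {I : X.Modules} {E : X.Modules} {r : ℕ} (hr : 0 < r) (hE : FlatMod.IsFinLocFreeOfRank r E) {d : ℤ}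
  (hχ : Curv2.euler (IsLocalRing.ResidueField R) Xs ((Scheme.Modules.pullback i).obj I) = d)
  (hEd : Curv2.deg (IsLocalRing.ResidueField R) Xs ((Scheme.Modules.pullback i).obj E) r = -(r : ℤ) * d)

include hsq hpure hgi hgen hr hE hχ hEd in
/-- Langton: some extension is semistable on the special fibre. -/
theorem exists_semistable (hI : TFOne.IsRelTF1 f I)
    (hIg : TFOne.FibSemistable (Xg ↘ Spec (CommRingCat.of (FractionRing R))) ((Scheme.Modules.pullback j).obj I)
      ((Scheme.Modules.pullback j).obj E) r) :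
    ∃ M, Good f i j I M ∧ TFOne.IsSemistable Xs (IsLocalRing.ResidueField R)
      (Xs ↘ Spec (CommRingCat.of (IsLocalRing.ResidueField R))) ((Scheme.Modules.pullback i).obj M)
      ((Scheme.Modules.pullback i).obj E) r := by
  classical
  haveI := isProper_special hsq
  haveI := EulerIneqLib.isNoetherian_proper (X := Xs) (IsLocalRing.ResidueField R)
  let κ := IsLocalRing.ResidueField R
  have hdim := dim_special hpure
  have hEs := PBundleLib.isFinLocFreeOfRank_pullback i hE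
  by_contra hns
  push Not at hns
  let b : X.Modules → Set Xs → ℤ := fun M T =>
    beta κ ((Scheme.Modules.pullback i).obj E) r ((Scheme.Modules.pullback i).obj M) T
  let D : X.Modules → Set Xs → Prop := fun M Y => Good f i j I M ∧ VecSt.IsSubcurve Xs Y ∧ b M Y < 0 ∧
    (∀ T, VecSt.IsSubcurve Xs T → b M Y ≤ b M T) ∧ ∀ T, VecSt.IsSubcurve Xs T → b M T = b M Y → T ⊆ Y
  have hfin : {T : Set Xs | VecSt.IsSubcurve Xs T}.Finite :=
    (IsUC.finite (X := Xs)).subset fun T h => isUC_of_isSubcurve h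
  have hexD : ∀ M, Good f i j I M → ∃ Y, D M Y := fun M hM => by
    obtain ⟨T₀, hT₀, hneg⟩ : ∃ T, VecSt.IsSubcurve Xs T ∧ b M T < 0 := by
      by_contra hh
      push Not at hh
      exact hns M hM ((isSemistable_iff_beta κ hdim hEs hM.tf).2 fun T hT _ => hh T hT)
    obtain ⟨T₁, hT₁, hmin⟩ := Set.exists_min_image _ (b M) hfin ⟨T₀, hT₀⟩
    have hneg₁ : b M T₁ < 0 := (hmin T₀ hT₀).trans_lt hneg
    let S := {T : Set Xs | VecSt.IsSubcurve Xs T ∧ b M T = b M T₁}
    obtain ⟨Y, hY⟩ := Set.Finite.exists_maximal (s := S) (hfin.subset fun T h => h.1) ⟨T₁, hT₁, rfl⟩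
    obtain ⟨hYs, hYb⟩ := hY.1
    refine ⟨Y, hM, hYs, hYb ▸ hneg₁, fun T hT => hYb ▸ hmin T hT, fun T hT hTb => ?_⟩
    have hU := isUC_union (isUC_of_isSubcurve hYs) (isUC_of_isSubcurve hT)
    obtain ⟨η, -, hη⟩ := exists_maxPt_mem hYs
    have hUs := hU.isSubcurve (Or.inl hη : η ∈ Y ∪ T)
    have hle := beta_union_le κ hdim hEs hM.tf (isUC_of_isSubcurve hYs) (isUC_of_isSubcurve hT)
    have hW : b M T₁ ≤ b M (Set.sUnion {C | C ∈ irreducibleComponents (Xs : Type u) ∧ C ⊆ Y ∩ T}) := by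
      rcases Set.eq_empty_or_nonempty (Set.sUnion {C | C ∈ irreducibleComponents (Xs : Type u) ∧ C ⊆ Y ∩ T}) with h | ⟨z, hz⟩
      · rw [h]
        exact hneg₁.le.trans_eq (beta_empty κ hdim hEs hM.tf).symm
      · exact hmin _ ((isUC_sep _).isSubcurve hz)
    have hUb : b M (Y ∪ T) = b M T₁ := le_antisymm (by simp only [b] at hle hW hYb hTb ⊢; omega) (hmin _ hUs)
    exact Set.subset_union_right.trans (hY.le_of_ge (y := Y ∪ T) ⟨hUs, hUb⟩ Set.subset_union_left)
  -- the numbers of a modification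
  have hne : ∀ {M Y}, D M Y → Y ≠ Set.univ := fun {M Y} h hY => by
    have := h.2.2.1
    rw [hY] at this
    exact absurd this (not_lt.2 (beta_univ κ hdim hEs h.1.tf (h.1.euler.trans hχ) hEd).ge)
  have hnext : ∀ {M Y}, D M Y → ∀ {G : Xs.Modules} {π : (Scheme.Modules.pullback i).obj M ⟶ G},
      TFOne.IsQuotOn Xs ((Scheme.Modules.pullback i).obj M) Y G π →
      ∀ {Z}, D (kernel ((Scheme.Modules.pullbackPushforwardAdjunction i).unit.app M ≫
        (Scheme.Modules.pushforward i).map π)) Z →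
      b M Y ≤ b (kernel ((Scheme.Modules.pullbackPushforwardAdjunction i).unit.app M ≫
        (Scheme.Modules.pushforward i).map π)) Z ∧
      (b (kernel ((Scheme.Modules.pullbackPushforwardAdjunction i).unit.app M ≫
        (Scheme.Modules.pushforward i).map π)) Z = b M Y → Z ⊆ Y) := by
    intro M Y h G π hG Z hZ
    obtain ⟨hM, hYs, -, hmin, hmax⟩ := h
    obtain ⟨G₁, π₁, hG₁⟩ := exists_quotUC hZ.1.tf (isUC_of_isSubcurve hZ.2.1)
    have hc := fun {T} (h : VecSt.IsSubcurve Xs T) => (isUC_of_isSubcurve h).isClosed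
    have := Groth.Agent.S18847.result R X f Xs i hsq hpure hgi M hM.coh hM.flat hM.tf E r hr hE d
      (hM.euler.trans hχ) hEd Y (hc hYs) hYs G π hG _ rfl
      (fun T hT hTs G' π' hG' => by
        rw [beta_eq κ hdim hEs hM.tf (hc hYs) hG, beta_eq κ hdim hEs hM.tf hT hG']; exact hmin T hTs)
      (fun T hT hTs G' π' hG' he => hmax T hTs (by
        rw [beta_eq κ hdim hEs hM.tf (hc hYs) hG, beta_eq κ hdim hEs hM.tf hT hG'] at he; exact he))
      Z (hc hZ.2.1) hZ.2.1 G₁ π₁ hG₁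
    rw [beta_eq κ hdim hEs hM.tf (hc hYs) hG, beta_eq κ hdim hEs hZ.1.tf (hc hZ.2.1) hG₁] at this
    exact this
  -- an extremal state
  have hex : ∃ n : ℕ, ∃ M Y, D M Y ∧ (-b M Y).toNat = n := by
    obtain ⟨Y, hY⟩ := hexD I (good_start hsq hI)
    exact ⟨_, I, Y, hY, rfl⟩
  let n₀ := Nat.find hex
  let 𝒴 := {Y : Set Xs | ∃ M, D M Y ∧ (-b M Y).toNat = n₀}
  obtain ⟨Y, hY⟩ := Set.Finite.exists_minimal (s := 𝒴) (hfin.subset fun T ⟨M, h, _⟩ => h.2.1)
    (by obtain ⟨M, Y, h⟩ := Nat.find_spec hex; exact ⟨Y, M, h⟩)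
  obtain ⟨M₀, hD₀, hn₀⟩ := hY.1
  let μ := b M₀ Y
  have hμ : μ < 0 := hD₀.2.2.1
  let Q : X.Modules → Prop := fun M => D M Y ∧ b M Y = μ
  have hYuc := isUC_of_isSubcurve hD₀.2.1
  let Y' := Set.sUnion {C | C ∈ irreducibleComponents (Xs : Type u) ∧ ¬ C ⊆ Y}
  have hY' : ∀ η : Xs, IsMaxPt η → (η ∈ Y' ↔ η ∉ Y) := fun η hη => mem_union_iff_of_maxPt hη hYuc.isClosed
  let Dec : X.Modules → Prop := fun M => ∃ (G G' : Xs.Modules) (π : (Scheme.Modules.pullback i).obj M ⟶ G)
    (π' : (Scheme.Modules.pullback i).obj M ⟶ G'), TFOne.IsQuotOn Xs ((Scheme.Modules.pullback i).obj M) Y G π ∧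
    TFOne.IsQuotOn Xs ((Scheme.Modules.pullback i).obj M) Y' G' π' ∧ IsIso (biprod.lift π π')
  have hQ : ∀ {M}, Q M → ∀ {G : Xs.Modules} {π : (Scheme.Modules.pullback i).obj M ⟶ G},
      TFOne.IsQuotOn Xs ((Scheme.Modules.pullback i).obj M) Y G π →
      Q (kernel ((Scheme.Modules.pullbackPushforwardAdjunction i).unit.app M ≫
          (Scheme.Modules.pushforward i).map π)) ∧
        Dec (kernel ((Scheme.Modules.pullbackPushforwardAdjunction i).unit.app M ≫
          (Scheme.Modules.pushforward i).map π)) := by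
    intro M hQM G π hG
    have hg := hQM.1.1.step hsq hpure hgen hG
    obtain ⟨Z, hZ⟩ := hexD _ hg
    obtain ⟨h1, h2⟩ := hnext hQM.1 hG hZ
    have hle : n₀ ≤ (-b _ Z).toNat := Nat.find_min' hex ⟨_, Z, hZ, rfl⟩
    have h0 := hZ.2.2.1
    have hb1 := hQM.2
    have hn : (-μ).toNat = n₀ := hn₀
    have heq : b (kernel ((Scheme.Modules.pullbackPushforwardAdjunction i).unit.app M ≫
        (Scheme.Modules.pushforward i).map π)) Z = b M Y := by omega
    obtain rfl : Z = Y := (h2 heq).antisymm (hY.le_of_le (y := Z) ⟨_, hZ, by rw [heq, hb1]; exact hn⟩ (h2 heq))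
    refine ⟨⟨hZ, heq.trans hb1⟩, ?_⟩
    obtain ⟨G₁, π₁, hG₁⟩ := exists_quotUC hg.tf hYuc
    obtain ⟨G₂, π₂, hG₂⟩ := exists_quotUC hg.tf (T := Y') (isUC_sep _)
    obtain ⟨hM, hYs, -, hmin, hmax⟩ := hQM.1
    refine ⟨G₁, G₂, π₁, π₂, hG₁, hG₂, (Groth.Agent.S18854.result R X f Xs i hsq hpure hgi M hM.coh hM.flat hM.tf E r hr hE d
      (hM.euler.trans hχ) hEd _ hYuc.isClosed hYs G π hG _ rfl (hne hQM.1)
      (fun T hT hTs G' π' hG' => by
        rw [beta_eq κ hdim hEs hM.tf hYuc.isClosed hG, beta_eq κ hdim hEs hM.tf hT hG']; exact hmin T hTs)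
      (fun T hT hTs G' π' hG' he => hmax T hTs (by
        rw [beta_eq κ hdim hEs hM.tf hYuc.isClosed hG, beta_eq κ hdim hEs hM.tf hT hG'] at he; exact he))
      Y' rfl (isUC_sep _).isClosed G₁ G₂ π₁ π₂ hG₁ hG₂).1 ?_⟩
    rw [beta_eq κ hdim hEs hM.tf hYuc.isClosed hG, beta_eq κ hdim hEs hg.tf hYuc.isClosed hG₁]
    exact heq
  obtain ⟨G₀, π₀, hG₀⟩ := exists_quotUC hD₀.1.tf hYuc
  have hstart := hQ (M := M₀) ⟨hD₀, rfl⟩ hG₀
  refine absurd (limit_bound (P := fun M => Q M ∧ Dec M) hsq hpure hgi hgen hY' ?_ (fun M h => h.1.1.1) hstart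
    hYuc.isClosed hE hχ hEd hIg).1 ?_
  · rintro M ⟨hQM, G, G', π, π', hG, hG', hdec⟩
    exact ⟨G, G', π, π', hG, hG', hdec, hQ hQM hG⟩
  · exact not_le.2 (hstart.1.2.trans_lt hμ)

end Groth.Agent.TFLangLib
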