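import Groth.Agent.TFOneLib.Beta
import Groth.Agent.TFOneLib.Const
import Groth.Agent.GeomRedPtLib.Basic
import Groth.Agent.S1543
import Groth.Agent.S1688
import Groth.Agent.S9777
import Groth.Agent.SuppLib.Basic
import Groth.Agent.PullbackMod.Props
import Groth.Agent.NearGen.FibreRing
import Mathlib.AlgebraicGeometry.Morphisms.UniversallyOpen

/-!
# A curve with geometrically integral components and a change of the field
-/

set_option autoImplicit false
set_option backward.isDefEq.respectTransparency false
set_option linter.style.haveILetI false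

universe u

open CategoryTheory CategoryTheory.Limits AlgebraicGeometry TopologicalSpace Opposite TensorProduct

attribute [local instance] Curv2.stalkAlgebra

noncomputable section

namespace Groth.Agent.TFLangLib

open MeroLib (IsMaxPt)
open PullbackMod TFOneLib

variable {κ : Type u} [Field κ] {X : Scheme.{u}} [X.Over (Spec (CommRingCat.of κ))] [IsReduced X]

/-- A reduced curve with geometrically integral components is geometrically reduced. -/
theorem geometricallyReduced_of_components
    (hgi : ∀ (C : Set X) (hC : C ∈ irreducibleComponents (X : Type u)), GeometricallyIntegral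
      (VecSt.subschι X C (isClosed_of_mem_irreducibleComponents C hC) ≫ (X ↘ Spec (CommRingCat.of κ)))) :
    GeometricallyReduced (X ↘ Spec (CommRingCat.of κ)) := by
  refine GeomRedPtLib.geometricallyReduced_iff_forall.2 fun x => (GeomRedPtLib.isGeomReducedAt_iff x).2
    (Groth.Agent.S1543.isGeometricallyReduced_stalk_of_generic κ X x fun C hC η hη =>
      (GeomRedPtLib.isGeomReducedAt_iff η).2 ?_)
  haveI := hgi C hC
  let ι := VecSt.subschι X C (isClosed_of_mem_irreducibleComponents C hC)
  letI : (VecSt.subsch X C (isClosed_of_mem_irreducibleComponents C hC)).Over (Spec (CommRingCat.of κ)) :=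
    ⟨ι ≫ (X ↘ Spec (CommRingCat.of κ))⟩
  haveI : GeometricallyReduced (VecSt.subsch X C (isClosed_of_mem_irreducibleComponents C hC) ↘
      Spec (CommRingCat.of κ)) := by
    show GeometricallyReduced (ι ≫ (X ↘ Spec (CommRingCat.of κ)))
    infer_instance
  have hmem : η ∈ Set.range ι := by
    show η ∈ Set.range (Scheme.IdealSheafData.subschemeι _)
    rw [Scheme.IdealSheafData.range_subschemeι, Scheme.IdealSheafData.coe_support_vanishingIdeal]
    exact hη.mem
  obtain ⟨c, rfl⟩ := hmem
  haveI := (GeomRedPtLib.isGeomReducedAt_iff (k := κ) c).1 (GeomRedPtLib.geometricallyReduced_iff_forall.1 ‹_› c)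
  have hmax : IsMaxPt (ι c) := (MeroLib.isMaxPt_iff _).2 (by
    show closure {ι c} ∈ irreducibleComponents (X : Type u)
    rw [hη.def]
    exact hC)
  let φ : X.presheaf.stalk (ι c) →ₐ[κ] (VecSt.subsch X C _).presheaf.stalk c :=
    { (ι.stalkMap c).hom with
      commutes' := fun r => Scheme.Hom.germ_stalkMap_apply ι ⊤ c trivial
        (Coh.toGlobal (X ↘ Spec (CommRingCat.of κ)) r) }
  refine Algebra.IsGeometricallyReduced.of_injective φ ?_
  letI := (MeroLib.isField_stalk hmax).toField
  exact RingHom.injective _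

variable {L : Type u} [Field L] {φ : κ →+* L} {Y : Scheme.{u}} [Y.Over (Spec (CommRingCat.of L))] {q : Y ⟶ X}
  (hq : IsPullback q (Y ↘ Spec (CommRingCat.of L)) (X ↘ Spec (CommRingCat.of κ))
    (Spec.map (CommRingCat.ofHom φ)))

omit [IsReduced X] in
include hq in
theorem flat_bc : Flat q := by
  refine MorphismProperty.of_isPullback (P := @Flat) hq.flip ?_
  rw [HasRingHomProperty.Spec_iff (P := @Flat)]
  letI := φ.toAlgebra
  exact RingHom.flat_algebraMap_iff.2 inferInstance

omit [IsReduced X] in
include hq in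
theorem surjective_bc : Function.Surjective q := fun x => by
  obtain ⟨z, hz, -⟩ := Scheme.Pullback.exists_preimage_pullback (f := X ↘ Spec (CommRingCat.of κ))
    (g := Spec.map (CommRingCat.ofHom φ)) x (IsLocalRing.closedPoint L) (Subsingleton.elim _ _)
  exact ⟨hq.isoPullback.inv z, by rw [← Scheme.Hom.comp_apply, hq.isoPullback_inv_fst]; exact hz⟩

omit [IsReduced X] in
include hq in
theorem isProper_bc [IsProper (X ↘ Spec (CommRingCat.of κ))] : IsProper (Y ↘ Spec (CommRingCat.of L)) :=
  MorphismProperty.of_isPullback (P := @IsProper) hq inferInstance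

omit [IsReduced X] in
include hq in
theorem dim_bc [IsProper (X ↘ Spec (CommRingCat.of κ))] : topologicalKrullDim Y = topologicalKrullDim X :=
  S9777.dim_eq _ _ hq

include hq in
theorem isReduced_bc
    (hgi : ∀ (C : Set X) (hC : C ∈ irreducibleComponents (X : Type u)), GeometricallyIntegral
      (VecSt.subschι X C (isClosed_of_mem_irreducibleComponents C hC) ≫ (X ↘ Spec (CommRingCat.of κ)))) :
    IsReduced Y :=
  (geometricallyReduced_of_components hgi).geometrically_isReduced _ _ _ hq

omit [IsReduced X] in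
include hq in
/-- A maximal point lies over a maximal point. -/
theorem isMaxPt_map {η : Y} (hη : IsMaxPt η) : IsMaxPt (q η) := fun z hz => by
  haveI := flat_bc hq
  obtain ⟨w, hw, rfl⟩ := Flat.generalizingMap q hz
  rw [hη w hw]

omit [IsReduced X] in
include hq in
/-- Over a maximal point lies a maximal point. -/
theorem exists_maxPt_over {ξ : X} (hξ : IsMaxPt ξ) : ∃ η : Y, IsMaxPt η ∧ q η = ξ := by
  obtain ⟨y, rfl⟩ := surjective_bc hq ξ
  obtain ⟨η, hη, hs⟩ := PicCurveLib.exists_genPt y
  exact ⟨η, (isMaxPt_iff_genericPoints η).2 hη, hξ _ (hs.map q.continuous)⟩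

omit [IsReduced X] in
include hq in
/-- The preimage of a component is irreducible, so the maximal point over a maximal point is unique. -/
theorem eq_of_map_eq
    (hgi : ∀ (C : Set X) (hC : C ∈ irreducibleComponents (X : Type u)), GeometricallyIntegral
      (VecSt.subschι X C (isClosed_of_mem_irreducibleComponents C hC) ≫ (X ↘ Spec (CommRingCat.of κ))))
    {η η' : Y} (hη : IsMaxPt η) (hη' : IsMaxPt η') (h : q η = q η') : η = η' := by
  have hC : closure ({q η} : Set X) ∈ irreducibleComponents (X : Type u) :=
    (isMaxPt_iff_genericPoints _).1 (isMaxPt_map hq hη)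
  haveI := hgi _ hC
  let ι := VecSt.subschι X _ (isClosed_of_mem_irreducibleComponents _ hC)
  haveI : IsIntegral (pullback ι q) :=
    GeometricallyIntegral.geometrically_isIntegral (f := ι ≫ (X ↘ Spec (CommRingCat.of κ)))
      (Spec.map (CommRingCat.ofHom φ)) _ _ ((IsPullback.of_hasPullback ι q).paste_vert hq)
  have hr : Set.range (pullback.snd ι q) = q ⁻¹' closure {q η} := by
    rw [Scheme.Pullback.range_snd]
    congr 1
    show Set.range (Scheme.IdealSheafData.subschemeι _) = _
    rw [Scheme.IdealSheafData.range_subschemeι, Scheme.IdealSheafData.coe_support_vanishingIdeal]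
    rfl
  have hirr : IsIrreducible (q ⁻¹' closure {q η}) := by
    rw [← hr, ← Set.image_univ]
    exact (IrreducibleSpace.isIrreducible_univ _).image _ (pullback.snd ι q).continuous.continuousOn
  obtain ⟨ξ, hξ⟩ := QuasiSober.sober hirr (isClosed_closure.preimage q.continuous)
  rw [← hη ξ (hξ.specializes (subset_closure rfl)),
    hη' ξ (hξ.specializes (show q η' ∈ closure {q η} by rw [← h]; exact subset_closure rfl))]

omit [IsReduced X] in
include hq in
theorem ringKrullDim_stalk_bc [IsProper (X ↘ Spec (CommRingCat.of κ))] (hdim : topologicalKrullDim X ≤ 1) (y : Y) :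
    ringKrullDim (Y.presheaf.stalk y) ≤ 1 :=
  (S1688.dim_le y).trans ((dim_bc hq).le.trans hdim)

include hq in
/-- Torsion-freeness persists. -/
theorem torsionFree_bc [IsProper (X ↘ Spec (CommRingCat.of κ))] (hdim : topologicalKrullDim X ≤ 1) {G : X.Modules}
    [Coh.IsQCoh G] (htG : TorSh.IsTorsionFree G) : TorSh.IsTorsionFree ((Scheme.Modules.pullback q).obj G) := by
  haveI := flat_bc hq
  haveI : IsLocallyNoetherian X := LocallyOfFiniteType.isLocallyNoetherian (X ↘ Spec (CommRingCat.of κ))
  haveI := isProper_bc hq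
  haveI : IsLocallyNoetherian Y := LocallyOfFiniteType.isLocallyNoetherian (Y ↘ Spec (CommRingCat.of L))
  intro y
  let A := X.presheaf.stalk (q y)
  let B := Y.presheaf.stalk y
  letI : Algebra A B := (q.stalkMap y).hom.toAlgebra
  haveI : Module.Flat A B := Flat.stalkMap q y
  haveI : Module.IsTorsionFree A (G.presheaf.stalk (q y)) := htG (q y)
  obtain ⟨e, -⟩ := exists_pullback_stalk_equiv q G y
  suffices Module.IsTorsionFree B (B ⊗[A] G.presheaf.stalk (q y)) from
    e.symm.injective.moduleIsTorsionFree e.symm.toLinearMap fun r z => map_smul e.symm r z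
  by_cases hx : IsMaxPt (q y)
  · letI := (MeroLib.isField_stalk hx).toField
    haveI : Module.Flat A (G.presheaf.stalk (q y)) := inferInstance
    haveI : Module.Flat B (B ⊗[A] G.presheaf.stalk (q y)) := inferInstance
    infer_instance
  · have hAred : _root_.IsReduced A := inferInstance
    obtain ⟨a, ha, hreg⟩ : ∃ a ∈ IsLocalRing.maximalIdeal A, a ∈ nonZeroDivisors A := by
      refine Groth.Agent.NearGen.exists_mem_nonZeroDivisors A (RingHom.id A) _ fun z hz => ?_
      by_contra hz0
      refine hx ?_
      obtain ⟨p, hp, hzp⟩ : ∃ p ∈ minimalPrimes A, z ∉ p := by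
        by_contra hh
        push Not at hh
        refine hz0 (IsNilpotent.eq_zero (nilpotent_iff_mem_prime.2 fun J hJ => ?_))
        haveI : J.IsPrime := hJ
        obtain ⟨p, hp, hpJ⟩ := Ideal.exists_minimalPrimes_le (show (⊥ : Ideal A) ≤ J from bot_le)
        exact hpJ (hh p hp)
      haveI := hp.1.1
      have hpm : p = IsLocalRing.maximalIdeal A :=
        le_antisymm (IsLocalRing.le_maximalIdeal hp.1.1.ne_top) fun b hb =>
          ((Ideal.IsPrime.mul_mem_iff_mem_or_mem ‹_›).1 (show b * z ∈ p by rw [show b * z = 0 from hz b hb]; exact zero_mem p)).resolve_right hzp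
      intro w hw
      obtain ⟨P, rfl⟩ : w ∈ Set.range (X.fromSpecStalk (q y)) := Scheme.range_fromSpecStalk.ge hw
      have hP : P = IsLocalRing.closedPoint A := by
        refine PrimeSpectrum.ext (le_antisymm (IsLocalRing.le_maximalIdeal P.2.ne_top) ?_)
        have := hp.2 ⟨P.2, bot_le⟩
        rw [hpm] at this
        exact this (IsLocalRing.le_maximalIdeal P.2.ne_top)
      rw [hP, Scheme.fromSpecStalk_closedPoint]
    refine ⟨fun b hb => ?_⟩
    have hbn : b ∈ nonZeroDivisors B := isRegular_iff_mem_nonZeroDivisors.1 hb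
    refine IsSMulRegular.of_right_eq_zero_of_smul fun z hz => ?_
    by_cases hbu : IsUnit b
    · exact hbu.smul_eq_zero.1 hz
    have hdB : Ring.KrullDimLE 1 B := Ring.krullDimLE_iff.2 (by exact_mod_cast ringKrullDim_stalk_bc hq hdim y)
    have haM : algebraMap A B a ∈ IsLocalRing.maximalIdeal B := fun hu =>
      ha (IsUnit.of_map (q.stalkMap y).hom a hu)
    obtain ⟨n, hn⟩ : ∃ n : ℕ, algebraMap A B a ^ n ∈ Ideal.span {b} := by
      refine (Ideal.mem_radical_iff).1 ?_
      rw [Ideal.radical_eq_sInf]
      refine Submodule.mem_sInf.2 fun (P : Ideal B) ⟨hbP, hPp⟩ => ?_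
      haveI := hPp
      have hPm : P.IsMaximal := by
        by_contra hPm
        have hlt : P < IsLocalRing.maximalIdeal B :=
          lt_of_le_of_ne (IsLocalRing.le_maximalIdeal hPp.ne_top)
            fun e => hPm (e ▸ IsLocalRing.maximalIdeal.isMaximal B)
        have hmin : P ∈ minimalPrimes B := by
          refine ⟨⟨hPp, bot_le⟩, fun Q hQ hQP => ?_⟩
          by_contra hPQ
          haveI := hQ.1
          have hlt' : Q < P := lt_of_le_not_ge hQP hPQ
          rw [Ring.krullDimLE_iff] at hdB
          have hchain : ((2 : ℕ) : WithBot ℕ∞) ≤ ringKrullDim B := by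
            refine le_trans ?_ (Order.LTSeries.length_le_krullDim
              (((RelSeries.singleton _ (⟨Q, hQ.1⟩ : PrimeSpectrum B)).snoc ⟨P, hPp⟩ hlt').snoc
                ⟨_, (IsLocalRing.maximalIdeal.isMaximal B).isPrime⟩
                  (by simp only [RelSeries.last_snoc]; exact hlt)))
            simp
          exact absurd (hchain.trans hdB) (by norm_num)
        exact Set.disjoint_left.1 (Ideal.disjoint_nonZeroDivisors_of_mem_minimalPrimes hmin)
          (hbP (Ideal.mem_span_singleton_self b)) hbn
      rw [← IsLocalRing.eq_maximalIdeal hPm] at haM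
      exact haM
    obtain ⟨c, hc⟩ := Ideal.mem_span_singleton'.1 hn
    have hz' : algebraMap A B a ^ n • z = 0 := by rw [← hc, mul_smul, hz, smul_zero]
    have hra : IsSMulRegular (B ⊗[A] G.presheaf.stalk (q y)) a := by
      have h1 : IsSMulRegular (G.presheaf.stalk (q y)) a :=
        (isRegular_iff_mem_nonZeroDivisors.2 hreg).isSMulRegular
      exact IsSMulRegular.lTensor B h1
    rw [← map_pow, algebraMap_smul] at hz'
    exact (hra.pow n) (hz'.trans (smul_zero _).symm)

omit [IsReduced X] in
include hq in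
/-- Ranks persist. -/
theorem isRkOne_bc {M : X.Modules} [Coh.IsQCoh M] (hM : TFOne.IsRkOne X M) :
    TFOne.IsRkOne Y ((Scheme.Modules.pullback q).obj M) := fun η hη => by
  obtain ⟨ψ⟩ := hM (q η) ((isMaxPt_iff_genericPoints _).1 (isMaxPt_map hq ((isMaxPt_iff_genericPoints _).2 hη)))
  letI : Algebra (X.presheaf.stalk (q η)) (Y.presheaf.stalk η) := (q.stalkMap η).hom.toAlgebra
  obtain ⟨e, -⟩ := exists_pullback_stalk_equiv q M η
  exact ⟨e.symm ≪≫ₗ LinearEquiv.baseChange _ _ _ _ ψ ≪≫ₗ AlgebraTensorModule.rid _ _ _⟩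

include hq in
theorem isTF1_bc [IsProper (X ↘ Spec (CommRingCat.of κ))] (hdim : topologicalKrullDim X ≤ 1) {M : X.Modules}
    (hM : TFOne.IsTF1 X M) : TFOne.IsTF1 Y ((Scheme.Modules.pullback q).obj M) :=
  haveI := hM.1.1
  ⟨PullbackMod.isCoh_pullback q M hM.1, torsionFree_bc hq hdim hM.2.1, isRkOne_bc hq hM.2.2⟩

include hq in
/-- The quotients on closed subsets persist. -/
theorem isQuotOn_bc [IsProper (X ↘ Spec (CommRingCat.of κ))] (hdim : topologicalKrullDim X ≤ 1) {M G : X.Modules}
    {Z : Set X} {π : M ⟶ G} (hG : TFOne.IsQuotOn X M Z G π) :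
    TFOne.IsQuotOn Y ((Scheme.Modules.pullback q).obj M) (q ⁻¹' Z) ((Scheme.Modules.pullback q).obj G)
      ((Scheme.Modules.pullback q).map π) := by
  haveI := hG.1
  haveI := hG.2.1.1
  refine ⟨inferInstance, PullbackMod.isCoh_pullback q G hG.2.1, torsionFree_bc hq hdim hG.2.2.1, ?_⟩
  rw [SuppLib.support_pullback q G hG.2.1.2, hG.2.2.2]

end Groth.Agent.TFLangLib
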