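import Groth.Agent.TFLangLib.Bc
import Groth.Agent.TFOneLib.Setup
import Groth.Agent.TFOneLib.Modif2
import Groth.Agent.TFOneLib.TowerAlg
import Groth.Agent.QCohLib.Coherent
import Groth.Agent.S0403
import Groth.Agent.S0435
import Groth.Agent.S9777
import Mathlib.AlgebraicGeometry.Morphisms.FinitePresentation

/-!
# The fibres of a family over a discrete valuation ring and the passage to generalisations
-/

set_option autoImplicit false
set_option backward.isDefEq.respectTransparency false
set_option linter.style.haveILetI false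

universe u

open CategoryTheory CategoryTheory.Limits AlgebraicGeometry TopologicalSpace Opposite TensorProduct

noncomputable section

namespace Groth.Agent.TFLangLib

open PullbackMod TFOneLib DCohLib

variable {R : Type u} [CommRing R] [IsDomain R] [IsDiscreteValuationRing R] {X : Scheme.{u}}
  {f : X ⟶ Spec (CommRingCat.of R)} [IsProper f] {κ : Type u} [Field κ] {Xs : Scheme.{u}}
  [Xs.Over (Spec (CommRingCat.of κ))] {i : Xs ⟶ X} {ψ : R →+* κ}

omit [IsProper f] in
theorem ker_eq_maximalIdeal (hψ : Function.Surjective ψ) : RingHom.ker ψ = IsLocalRing.maximalIdeal R :=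
  IsLocalRing.eq_maximalIdeal (RingHom.ker_isMaximal_of_surjective ψ hψ)

variable (hψ : Function.Surjective ψ)
  (hsq : IsPullback i (Xs ↘ Spec (CommRingCat.of κ)) f (Spec.map (CommRingCat.ofHom ψ)))

omit [IsProper f] in
include hψ in
theorem spec_map_eq_closedPoint (x : Spec (CommRingCat.of κ)) :
    Spec.map (CommRingCat.ofHom ψ) x = IsLocalRing.closedPoint R := PrimeSpectrum.ext (by
  show Ideal.comap ψ x.asIdeal = IsLocalRing.maximalIdeal R
  rw [(Ideal.eq_bot_or_top x.asIdeal).resolve_right x.2.ne_top, ← RingHom.ker_eq_comap_bot,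
    ker_eq_maximalIdeal hψ])

omit [IsProper f] in
include hψ hsq in
theorem mem_range_iff {y : X} : y ∈ Set.range i ↔ f y = IsLocalRing.closedPoint R := by
  constructor
  · rintro ⟨x, rfl⟩
    rw [← Scheme.Hom.comp_apply, hsq.w, Scheme.Hom.comp_apply]
    exact spec_map_eq_closedPoint hψ _
  · intro h
    obtain ⟨z, hz, -⟩ := Scheme.Pullback.exists_preimage_pullback (f := f)
      (g := Spec.map (CommRingCat.ofHom ψ)) y (IsLocalRing.closedPoint κ)
      (h.trans (spec_map_eq_closedPoint hψ _).symm)
    exact ⟨hsq.isoPullback.inv z, by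
      rw [← Scheme.Hom.comp_apply, hsq.isoPullback_inv_fst]; exact hz⟩

include hψ hsq in
/-- Every point specialises to a point of the special fibre. -/
theorem exists_specializes (y : X) : ∃ x : Xs, y ⤳ i x := by
  obtain ⟨y', hy', he⟩ := (IsLocalRing.specializes_closedPoint (f y)).mem_closed
    (f.isClosedMap _ (isClosed_closure (s := ({y} : Set X)))) ⟨y, subset_closure rfl, rfl⟩
  obtain ⟨x, rfl⟩ := (mem_range_iff hψ hsq).2 he
  exact ⟨x, specializes_iff_mem_closure.2 hy'⟩

include hψ hsq in
/-- The fibres are reduced curves. -/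
theorem fibre_facts [Flat f] [IsReduced Xs] (hdim : topologicalKrullDim Xs ≤ 1)
    (hgi : ∀ (C : Set Xs) (hC : C ∈ irreducibleComponents (Xs : Type u)), GeometricallyIntegral
      (VecSt.subschι Xs C (isClosed_of_mem_irreducibleComponents C hC) ≫ (Xs ↘ Spec (CommRingCat.of κ))))
    {Ω : Type u} [Field Ω] {t : Spec (CommRingCat.of Ω) ⟶ Spec (CommRingCat.of R)} {Xo : Scheme.{u}} {o : Xo ⟶ X}
    {q : Xo ⟶ Spec (CommRingCat.of Ω)} (ho : IsPullback o q f t) :
    IsReduced Xo ∧ topologicalKrullDim Xo ≤ 1 ∧ IsProper q := by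
  haveI : LocallyOfFinitePresentation f := inferInstance
  let y₀ := IsLocalRing.closedPoint R
  have hall : ∀ y, GeometricallyReduced (f.fiberToSpecResidueField y) ∧ topologicalKrullDim (f.fiber y) ≤ 1 := by
    suffices h : GeometricallyReduced (f.fiberToSpecResidueField y₀) ∧ topologicalKrullDim (f.fiber y₀) ≤ 1 from
      fun y => ⟨(IsLocalRing.specializes_closedPoint y).mem_open (Groth.Agent.S0435.result f) h.1,
        (IsLocalRing.specializes_closedPoint y).mem_open (Groth.Agent.S0403.result f 1) h.2⟩
    let s := Spec.map (CommRingCat.ofHom ψ)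
    have hy : s (IsLocalRing.closedPoint κ) = y₀ := spec_map_eq_closedPoint hψ _
    obtain ⟨χ, hχ⟩ : ∃ χ : (Spec (CommRingCat.of R)).residueField y₀ ⟶ CommRingCat.of κ,
        Spec.map χ ≫ (Spec (CommRingCat.of R)).fromSpecResidueField y₀ = s := by
      rw [← hy]
      exact ⟨_, Scheme.descResidueField_stalkClosedPointTo_fromSpecResidueField κ _ s⟩
    have hb : Function.Bijective χ.hom := by
      refine ⟨χ.hom.injective, fun a => ?_⟩
      obtain ⟨r, rfl⟩ := hψ a
      obtain ⟨φ₀, hφ₀⟩ := Spec.map_surjective ((Spec (CommRingCat.of R)).fromSpecResidueField y₀)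
      have : φ₀ ≫ χ = CommRingCat.ofHom ψ := Spec.map_injective (by rw [Spec.map_comp, hφ₀]; exact hχ)
      exact ⟨φ₀ r, congr($(this) r)⟩
    haveI : IsIso χ := (ConcreteCategory.isIso_iff_bijective χ).2 hb
    have hsq' : IsPullback i (Xs ↘ Spec (CommRingCat.of κ)) f
        (Spec.map χ ≫ (Spec (CommRingCat.of R)).fromSpecResidueField y₀) := by rwa [hχ]
    let a : Xs ⟶ f.fiber y₀ := pullback.lift i ((Xs ↘ Spec (CommRingCat.of κ)) ≫ Spec.map χ)
      (by rw [Category.assoc]; exact hsq'.w)
    have ha1 : a ≫ f.fiberι y₀ = i := pullback.lift_fst _ _ _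
    have ha2 : a ≫ f.fiberToSpecResidueField y₀ = (Xs ↘ Spec (CommRingCat.of κ)) ≫ Spec.map χ :=
      pullback.lift_snd _ _ _
    have hl : IsPullback a (Xs ↘ Spec (CommRingCat.of κ)) (f.fiberToSpecResidueField y₀) (Spec.map χ) :=
      IsPullback.of_right (ha1 ▸ hsq') ha2 (IsPullback.of_hasPullback _ _)
    haveI : IsIso a := hl.isIso_fst_of_isIso
    refine ⟨?_, ?_⟩
    · rw [show f.fiberToSpecResidueField y₀ = inv a ≫ (Xs ↘ Spec (CommRingCat.of κ)) ≫ Spec.map χ from
        (IsIso.eq_inv_comp a).2 ha2, MorphismProperty.cancel_left_of_respectsIso @GeometricallyReduced,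
        MorphismProperty.cancel_right_of_respectsIso @GeometricallyReduced]
      exact geometricallyReduced_of_components hgi
    · rw [← (Scheme.homeoOfIso (asIso a)).isHomeomorph.topologicalKrullDim_eq]
      exact hdim
  let y := t (IsLocalRing.closedPoint Ω)
  let χ := (Spec (CommRingCat.of R)).descResidueField (Scheme.stalkClosedPointTo t)
  have hχ : Spec.map χ ≫ (Spec (CommRingCat.of R)).fromSpecResidueField y = t :=
    Scheme.descResidueField_stalkClosedPointTo_fromSpecResidueField Ω _ t
  have ho' : IsPullback o q f (Spec.map χ ≫ (Spec (CommRingCat.of R)).fromSpecResidueField y) := by rwa [hχ]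
  let a : Xo ⟶ f.fiber y := pullback.lift o (q ≫ Spec.map χ) (by rw [Category.assoc]; exact ho'.w)
  have ha1 : a ≫ f.fiberι y = o := pullback.lift_fst _ _ _
  have hl : IsPullback a q (f.fiberToSpecResidueField y) (Spec.map χ) :=
    IsPullback.of_right (ha1 ▸ ho') (pullback.lift_snd _ _ _) (IsPullback.of_hasPullback _ _)
  obtain ⟨h1, h2⟩ := hall y
  haveI : IsProper (f.fiberToSpecResidueField y) :=
    MorphismProperty.of_isPullback (P := @IsProper) (IsPullback.of_hasPullback _ _) inferInstance
  exact ⟨h1.geometrically_isReduced _ _ _ hl, (S9777.dim_eq (k := (Spec (CommRingCat.of R)).residueField y)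
    (K := Ω) q (f.fiberToSpecResidueField y) (φ := χ) hl).trans_le h2,
    MorphismProperty.of_isPullback (P := @IsProper) ho inferInstance⟩

section stalks

variable [IsLocallyNoetherian X] [IsClosedImmersion i] {t : R}

omit [IsProper f] in
/-- A support is stable under specialisation. -/
theorem subsingleton_of_specializes {F : X.Modules} (hF : Coh.IsCoh F) {y z : X} (h : y ⤳ z)
    (hz : Subsingleton (F.presheaf.stalk z)) : Subsingleton (F.presheaf.stalk y) := by
  by_contra hy
  exact (h.mem_closed (isClosed_support_of_isFT hF.2) (hy : y ∈ CohB1.support F) : z ∈ CohB1.support F) hz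

omit [IsProper f] in
include hψ hsq in
theorem gt_mem_maximalIdeal (ht : Irreducible t) (x : Xs) :
    gt f (i x) t ∈ IsLocalRing.maximalIdeal (X.presheaf.stalk (i x)) := fun hu => by
  have h0 : i.stalkMap x (gt f (i x) t) = 0 := by
    rw [stalkMap_gt hsq, show ψ t = 0 by
      rw [← RingHom.mem_ker, ker_eq_maximalIdeal hψ, ht.maximalIdeal_eq]
      exact Ideal.mem_span_singleton_self t, gt, map_zero, map_zero]
  exact not_isUnit_zero (h0 ▸ hu.map (i.stalkMap x).hom)

omit [IsProper f] in
include hψ hsq in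
/-- A module vanishing on the special fibre vanishes at the generalisations. -/
theorem subsingleton_stalk_of_special {F : X.Modules} (hF : Coh.IsCoh F) {x : Xs}
    (hx : Subsingleton (((Scheme.Modules.pullback i).obj F).presheaf.stalk x)) {y : X} (hy : y ⤳ i x) :
    Subsingleton (F.presheaf.stalk y) := by
  refine subsingleton_of_specializes hF hy ?_
  obtain ⟨t, ht⟩ := IsDiscreteValuationRing.exists_irreducible R
  haveI := hF.1
  haveI := finite_stalk_of_isFT hF.2 (i x)
  have hρ : RingHom.ker ψ = Ideal.span {t} := by rw [ker_eq_maximalIdeal hψ, ht.maximalIdeal_eq]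
  have hle : (⊤ : Submodule (X.presheaf.stalk (i x)) (F.presheaf.stalk (i x))) ≤
      ⊥ ⊔ IsLocalRing.maximalIdeal _ • ⊤ := fun m _ => by
    obtain ⟨w, hw⟩ := ((pullStalk_quot hsq hψ hρ F x).2 m).1 (Subsingleton.elim _ _)
    rw [bot_sup_eq, ← hw]
    exact Submodule.smul_mem_smul (gt_mem_maximalIdeal hψ hsq ht x) Submodule.mem_top
  have := Submodule.le_of_le_smul_of_le_jacobson_bot Module.Finite.fg_top
    (IsLocalRing.maximalIdeal_le_jacobson _) hle
  exact subsingleton_of_forall_eq 0 fun m => (Submodule.mem_bot _).1 (this Submodule.mem_top)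

omit [IsProper f] in
include hψ hsq in
/-- A map to a flat module which is bijective on the special fibre is bijective at the generalisations. -/
theorem bijective_stalk_of_special {M N : X.Modules} (hM : Coh.IsCoh M) (hN : Coh.IsCoh N)
    (hfl : FlatMod.IsFlatOver f N) (φ : M ⟶ N) {x : Xs}
    (hx : Function.Bijective (stalkLin ((Scheme.Modules.pullback i).map φ) x)) {y : X} (hy : y ⤳ i x) :
    Function.Bijective (stalkLin φ y) := by
  obtain ⟨t, ht⟩ := IsDiscreteValuationRing.exists_irreducible R
  haveI := hM.1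
  haveI := hN.1
  have hρ : RingHom.ker ψ = Ideal.span {t} := by rw [ker_eq_maximalIdeal hψ, ht.maximalIdeal_eq]
  obtain ⟨hKc, hCc⟩ := QCohLib.isCoh_kernel_cokernel φ hM hN
  haveI := hKc.1
  haveI := hCc.1
  haveI := finite_stalk_of_isFT hN.2 (i x)
  haveI := finite_stalk_of_isFT hKc.2 (i x)
  have hm := gt_mem_maximalIdeal hψ hsq ht x
  obtain ⟨hMs, hMk⟩ := pullStalk_quot hsq hψ hρ M x
  obtain ⟨-, hNk⟩ := pullStalk_quot hsq hψ hρ N x
  have hsurj : Function.Surjective (stalkLin φ (i x)) := by
    rw [← LinearMap.range_eq_top]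
    refine top_le_iff.1 (Submodule.le_of_le_smul_of_le_jacobson_bot Module.Finite.fg_top
      (IsLocalRing.maximalIdeal_le_jacobson _) fun n _ => ?_)
    obtain ⟨a, ha⟩ := hx.2 (pullStalk i N x n)
    obtain ⟨m, rfl⟩ := hMs a
    rw [pullStalk_natural] at ha
    obtain ⟨w, hw⟩ := (hNk (n - stalkLin φ (i x) m)).1 (by rw [map_sub, ha, sub_self])
    rw [← add_sub_cancel (stalkLin φ (i x) m) n, ← hw]
    exact Submodule.add_mem_sup ⟨m, rfl⟩ (Submodule.smul_mem_smul hm Submodule.mem_top)
  have hC : Subsingleton ((cokernel φ).presheaf.stalk (i x)) := subsingleton_of_forall_eq 0 fun c => by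
    obtain ⟨n, rfl⟩ := (epi_iff_stalk (cokernel.π φ)).1 inferInstance (i x) c
    obtain ⟨m, rfl⟩ := hsurj n
    exact stalkLin_apply_zero (cokernel.condition φ) (i x) m
  have hι := (mono_iff_stalk (kernel.ι φ)).1 inferInstance
  have hK : Subsingleton ((kernel φ).presheaf.stalk (i x)) := by
    have hle : (⊤ : Submodule (X.presheaf.stalk (i x)) ((kernel φ).presheaf.stalk (i x))) ≤
        ⊥ ⊔ IsLocalRing.maximalIdeal _ • ⊤ := fun z _ => by
      have hz := stalkLin_apply_zero (kernel.condition φ) (i x) z
      obtain ⟨w, hw⟩ := (hMk (stalkLin (kernel.ι φ) (i x) z)).1 (hx.1 (by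
        rw [pullStalk_natural, hz, map_zero, map_zero]))
      have hw0 : stalkLin φ (i x) w = 0 := isSMulRegular_gt ht.ne_zero hfl (i x) (by
        show gt f (i x) t • stalkLin φ (i x) w = gt f (i x) t • 0
        rw [smul_zero, ← map_smul, hw, hz])
      obtain ⟨v, hv⟩ := exists_of_stalkLin_eq_zero φ (i x) hw0
      rw [bot_sup_eq, show z = gt f (i x) t • v from hι _ (by rw [map_smul, hv, hw])]
      exact Submodule.smul_mem_smul hm Submodule.mem_top
    have := Submodule.le_of_le_smul_of_le_jacobson_bot Module.Finite.fg_top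
      (IsLocalRing.maximalIdeal_le_jacobson _) hle
    exact subsingleton_of_forall_eq 0 fun z => (Submodule.mem_bot _).1 (this Submodule.mem_top)
  haveI := subsingleton_of_specializes hKc hy hK
  haveI := subsingleton_of_specializes hCc hy hC
  refine ⟨(injective_iff_map_eq_zero _).2 fun z hz => ?_, fun n => ?_⟩
  · obtain ⟨v, rfl⟩ := exists_of_stalkLin_eq_zero φ y hz
    rw [Subsingleton.elim v 0, map_zero]
  · exact exists_of_cokernel_π_eq_zero φ y (Subsingleton.elim _ _)

end stalks

/-- A map which is bijective on a stalk stays so after inverse image. -/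
theorem bijective_stalk_pullback {Y : Scheme.{u}} (g : Y ⟶ X) {M N : X.Modules} [Coh.IsQCoh M] [Coh.IsQCoh N]
    (φ : M ⟶ N) (z : Y) (h : Function.Bijective (stalkLin φ (g z))) :
    Function.Bijective (stalkLin ((Scheme.Modules.pullback g).map φ) z) := by
  letI := (g.stalkMap z).hom.toAlgebra
  have e : ((stalkLin φ (g z)).lTensor (Y.presheaf.stalk z)) =
      ((LinearEquiv.ofBijective _ h).lTensor (Y.presheaf.stalk z)).toLinearMap := rfl
  refine ⟨(injective_stalk_pullback_iff g φ z).2 ?_, (surjective_stalk_pullback_iff g φ z).2 ?_⟩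
  · rw [e]; exact LinearEquiv.injective _
  · rw [e]; exact LinearEquiv.surjective _

/-- A module vanishing at a point has inverse image vanishing above it. -/
theorem subsingleton_stalk_pullback {Y : Scheme.{u}} (g : Y ⟶ X) (M : X.Modules) [Coh.IsQCoh M] (z : Y)
    (h : Subsingleton (M.presheaf.stalk (g z))) :
    Subsingleton (((Scheme.Modules.pullback g).obj M).presheaf.stalk z) := by
  letI := (g.stalkMap z).hom.toAlgebra
  letI := Module.compHom (((Scheme.Modules.pullback g).obj M).presheaf.stalk z) (g.stalkMap z).hom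
  haveI : IsScalarTower (X.presheaf.stalk (g z)) (Y.presheaf.stalk z)
      (((Scheme.Modules.pullback g).obj M).presheaf.stalk z) := .of_algebraMap_smul fun _ _ => rfl
  haveI : Subsingleton (Y.presheaf.stalk z ⊗[X.presheaf.stalk (g z)] M.presheaf.stalk (g z)) :=
    subsingleton_of_forall_eq 0 fun c => by
      induction c using TensorProduct.induction_on with
      | zero => rfl
      | tmul a m => rw [Subsingleton.elim m 0, TensorProduct.tmul_zero]
      | add u v hu hv => rw [hu, hv, add_zero]
  exact (isBaseChange_pullStalkL' g M z).equiv.symm.toEquiv.subsingleton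

end Groth.Agent.TFLangLib
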