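import Groth.Agent.TFOneLib.Setup
import Groth.Agent.TFOneLib.Modif2
import Groth.Agent.ShStabLib.Noeth
import Groth.Agent.CurveLib.DegTensor

/-!
# Invariance under isomorphisms of modules
-/

set_option autoImplicit false
set_option backward.isDefEq.respectTransparency false
set_option linter.style.haveILetI false

universe u

open CategoryTheory CategoryTheory.Limits AlgebraicGeometry TopologicalSpace Opposite

noncomputable section

namespace Groth.Agent.TFLangLib

open PullbackMod TFOneLib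

variable {X : Scheme.{u}} {M N E E' : X.Modules}

theorem bijective_stalk_iso (e : M ≅ N) (x : X) : Function.Bijective (stalkLin e.hom x) :=
  ⟨Function.LeftInverse.injective (g := stalkLin e.inv x) fun z => by
      rw [stalkLin_eq_of_comp e.hom_inv_id, stalkLin_id, LinearMap.id_apply],
    fun w => ⟨stalkLin e.inv x w, by rw [stalkLin_eq_of_comp e.inv_hom_id, stalkLin_id, LinearMap.id_apply]⟩⟩

theorem torsionFree_iso (e : M ≅ N) (h : TorSh.IsTorsionFree N) : TorSh.IsTorsionFree M :=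
  torsionFree_of_injective e.hom (fun x => (bijective_stalk_iso e x).1) h

theorem isTF1_iso (e : M ≅ N) (h : TFOne.IsTF1 X N) : TFOne.IsTF1 X M :=
  ⟨ShStabLib.isCoh_of_iso e.symm h.1, torsionFree_iso e h.2.1, fun x hx =>
    ⟨(LinearEquiv.ofBijective _ (bijective_stalk_iso e x)).trans (h.2.2 x hx).some⟩⟩

theorem isQuotOn_pre (e : M ≅ N) {Z : Set X} {G : X.Modules} {π : N ⟶ G} (h : TFOne.IsQuotOn X N Z G π) :
    TFOne.IsQuotOn X M Z G (e.hom ≫ π) := by
  haveI := h.1
  exact ⟨epi_comp _ _, h.2⟩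

variable {k : Type u} [Field k]

theorem isSimple_iso (q : X ⟶ Spec (CommRingCat.of k)) (e : M ≅ N) (h : TFOne.IsSimple X k q N) :
    TFOne.IsSimple X k q M := by
  letI : X.Over (Spec (CommRingCat.of k)) := ⟨q⟩
  refine ⟨fun hz => h.1 (hz.of_iso e.symm), fun φ => ?_⟩
  obtain ⟨c, hc⟩ := h.2 (e.inv ≫ φ ≫ e.hom)
  refine ⟨c, hom_ext_stalk fun x => LinearMap.ext fun z => (bijective_stalk_iso e x).1 ?_⟩
  have h1 := congrArg (fun g : N ⟶ N => stalkLin g x (stalkLin e.hom x z)) hc
  simp only [stalkLin_comp, LinearMap.comp_apply] at h1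
  rw [stalkLin_eq_of_comp e.hom_inv_id, stalkLin_id, LinearMap.id_apply] at h1
  exact h1.trans ((stalkLin_smulMod k N c x _).trans
    (((congrArg (stalkLin e.hom x) (stalkLin_smulMod k M c x z)).trans (map_smul _ _ _)).symm))

theorem rBeta_iso (q : X ⟶ Spec (CommRingCat.of k)) [IsProper q] (e : E ≅ E') {Z : Set X} (hZ : IsClosed Z)
    (r : ℕ) (G : X.Modules) : TFOne.rBeta X k q Z hZ E r G = TFOne.rBeta X k q Z hZ E' r G := by
  letI : (VecSt.subsch X Z hZ).Over (Spec (CommRingCat.of k)) := ⟨VecSt.subschι X Z hZ ≫ q⟩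
  haveI : IsProper (VecSt.subsch X Z hZ ↘ Spec (CommRingCat.of k)) :=
    inferInstanceAs (IsProper (Scheme.IdealSheafData.subschemeι _ ≫ q))
  exact congrArg₂ (· + ·) rfl
    (CurveLib.deg_iso (k := k) ((Scheme.Modules.pullback (VecSt.subschι X Z hZ)).mapIso e) r)

variable {r : ℕ} (q : X ⟶ Spec (CommRingCat.of k)) [IsProper q] (e : M ≅ N) (e' : E ≅ E')

include e e'

theorem isSemistable_iso (h : TFOne.IsSemistable X k q N E' r) : TFOne.IsSemistable X k q M E r :=
  ⟨isTF1_iso e h.1, fun Z hZ hZs hne G π hG =>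
    (h.2 Z hZ hZs hne G _ (isQuotOn_pre e.symm hG)).trans_eq (rBeta_iso q e' hZ r G).symm⟩

theorem isQuasistableAtPt_iso {p : X} (h : TFOne.IsQuasistableAtPt X k q N E' r p) :
    TFOne.IsQuasistableAtPt X k q M E r p :=
  ⟨isSemistable_iso q e e' h.1, fun Z hZ hZs hne hp G π hG =>
    (h.2 Z hZ hZs hne hp G _ (isQuotOn_pre e.symm hG)).trans_eq (rBeta_iso q e' hZ r G).symm⟩

end Groth.Agent.TFLangLib
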