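import Groth.Agent.TFLangLib.FlatStep
import Groth.Agent.TFLangLib.GenFibre
import Groth.Agent.TFLangLib.Iso
import Groth.Agent.TFOneLib.TowerAlg
import Groth.Agent.PullbackMod.Flat
import Groth.Agent.S0549

/-!
# The completion of the base and the limit of a decomposing tower
-/

set_option autoImplicit false
set_option backward.isDefEq.respectTransparency false
set_option linter.style.haveILetI false

universe u

open CategoryTheory CategoryTheory.Limits AlgebraicGeometry TopologicalSpace Opposite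

noncomputable section

namespace Groth.Agent.TFLangLib

open MeroLib (IsMaxPt)
open PullbackMod TFOneLib DCohLib

variable {R : Type u} [CommRing R] [IsDomain R] [IsDiscreteValuationRing R] {X : Scheme.{u}}
  {f : X ⟶ Spec (CommRingCat.of R)} {κ : Type u} [Field κ] {Xs : Scheme.{u}}
  [Xs.Over (Spec (CommRingCat.of κ))]

/-- The completion of the base, with the lifted special fibre. -/
theorem exists_completion [IsProper f] [Flat f] {i : Xs ⟶ X} {ρ : R →+* κ} (hρ : Function.Surjective ρ)
    (hsq : IsPullback i (Xs ↘ Spec (CommRingCat.of κ)) f (Spec.map (CommRingCat.ofHom ρ))) :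
    ∃ (R' : Type u) (_ : CommRing R') (_ : IsDomain R') (_ : IsDiscreteValuationRing R') (φ : R →+* R')
      (X' : Scheme.{u}) (f' : X' ⟶ Spec (CommRingCat.of R')) (g : X' ⟶ X) (i' : Xs ⟶ X') (ψ : R' →+* κ),
      IsAdicComplete (IsLocalRing.maximalIdeal R') R' ∧ Function.Injective φ ∧
      (∀ t, Irreducible t → Irreducible (φ t)) ∧ Flat g ∧ IsProper f' ∧ Flat f' ∧ Function.Surjective ψ ∧
      IsPullback i' (Xs ↘ Spec (CommRingCat.of κ)) f' (Spec.map (CommRingCat.ofHom ψ)) ∧
      IsPullback g f' f (Spec.map (CommRingCat.ofHom φ)) ∧ i' ≫ g = i ∧ ψ.comp φ = ρ := by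
  let A := AdicCompletion (IsLocalRing.maximalIdeal R) R
  obtain ⟨hdom, hdvr⟩ := (Groth.Agent.S0549.result R).1 ⟨inferInstance, inferInstance⟩
  let φ : R →+* A := algebraMap R A
  have hirr : ∀ t, Irreducible t → Irreducible (φ t) := fun t ht => by
    rw [IsDiscreteValuationRing.irreducible_iff_uniformizer]
    refine (AdicCompletion.maximalIdeal_eq_map (R := R)).trans ((congrArg (Ideal.map φ) ht.maximalIdeal_eq).trans ?_)
    rw [Ideal.map_span, Set.image_singleton]
  have hφ : Function.Injective φ := by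
    obtain ⟨t, ht⟩ := IsDiscreteValuationRing.exists_irreducible R
    refine (injective_iff_map_eq_zero φ).2 fun a ha => by_contra fun hne => ?_
    obtain ⟨n, u, rfl⟩ := IsDiscreteValuationRing.eq_unit_mul_pow_irreducible hne ht
    rw [map_mul, map_pow] at ha
    rcases mul_eq_zero.1 ha with h | h
    · exact (u.isUnit.map φ).ne_zero h
    · exact (hirr t ht).ne_zero (eq_zero_of_pow_eq_zero h)
  let e : IsLocalRing.ResidueField R ≃+* IsLocalRing.ResidueField A :=
    RingEquiv.ofBijective (IsLocalRing.ResidueField.map (algebraMap R A))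
      (AdicCompletion.residueField_map_bijective R)
  have hkR : RingHom.ker ρ = IsLocalRing.maximalIdeal R := ker_eq_maximalIdeal hρ
  let ρ' : IsLocalRing.ResidueField R →+* κ := Ideal.Quotient.lift _ ρ fun a ha =>
    RingHom.mem_ker.1 (hkR ▸ ha)
  let ψ : A →+* κ := (ρ'.comp e.symm.toRingHom).comp (IsLocalRing.residue A)
  have hψρ : ψ.comp φ = ρ := RingHom.ext fun a => by
    show ρ' (e.symm (IsLocalRing.residue A (φ a))) = ρ a
    rw [show IsLocalRing.residue A (φ a) = e (IsLocalRing.residue R a) from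
      (IsLocalRing.ResidueField.map_residue _ a).symm, RingEquiv.symm_apply_apply]
    rfl
  have hψ : Function.Surjective ψ := fun c => by
    obtain ⟨a, rfl⟩ := hρ c
    exact ⟨φ a, congr($hψρ a)⟩
  let s := Spec.map (CommRingCat.ofHom φ)
  haveI : Flat s := by
    rw [HasRingHomProperty.Spec_iff (P := @Flat)]
    exact RingHom.flat_algebraMap_iff.2 (AdicCompletion.flat_of_isNoetherian _)
  have hsψ : Spec.map (CommRingCat.ofHom ψ) ≫ s = Spec.map (CommRingCat.ofHom ρ) := by
    rw [← Spec.map_comp, ← CommRingCat.ofHom_comp, hψρ]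
  let g := pullback.fst f s
  let f' := pullback.snd f s
  let i' : Xs ⟶ pullback f s := pullback.lift i ((Xs ↘ Spec (CommRingCat.of κ)) ≫ Spec.map (CommRingCat.ofHom ψ))
    (by rw [Category.assoc, hsψ]; exact hsq.w)
  have hi1 : i' ≫ g = i := pullback.lift_fst _ _ _
  have hsq' : IsPullback i' (Xs ↘ Spec (CommRingCat.of κ)) f' (Spec.map (CommRingCat.ofHom ψ)) :=
    IsPullback.of_right (by rw [hi1, hsψ]; exact hsq) (pullback.lift_snd _ _ _) (IsPullback.of_hasPullback f s)
  exact ⟨A, inferInstance, hdom, hdvr, φ, _, f', g, i', ψ, inferInstance, hφ, hirr,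
    MorphismProperty.pullback_fst (P := @Flat) f s inferInstance,
    MorphismProperty.pullback_snd (P := @IsProper) f s inferInstance,
    MorphismProperty.pullback_snd (P := @Flat) f s inferInstance, hψ, hsq', IsPullback.of_hasPullback f s, hi1, hψρ⟩

variable [IsProper f] [IsReduced Xs] {R' : Type u} [CommRing R'] [IsDomain R'] [IsDiscreteValuationRing R']
  {φ : R →+* R'} {X' : Scheme.{u}} {f' : X' ⟶ Spec (CommRingCat.of R')} {g : X' ⟶ X} [Flat g] [IsProper f']
  {i' : Xs ⟶ X'} {ψ : R' →+* κ}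

/-- The limit of a decomposing tower, over the completion. -/
theorem exists_limit_quot [IsAdicComplete (IsLocalRing.maximalIdeal R') R']
    (hirr : ∀ t, Irreducible t → Irreducible (φ t)) (hψ : Function.Surjective ψ)
    (hsq' : IsPullback i' (Xs ↘ Spec (CommRingCat.of κ)) f' (Spec.map (CommRingCat.ofHom ψ)))
    (hg : IsPullback g f' f (Spec.map (CommRingCat.ofHom φ))) (hρ : Function.Surjective (ψ.comp φ))
    (hsq : IsPullback (i' ≫ g) (Xs ↘ Spec (CommRingCat.of κ)) f (Spec.map (CommRingCat.ofHom (ψ.comp φ))))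
    (In : ℕ → X.Modules) {Y Y' : Set Xs} (G G' : ℕ → Xs.Modules)
    (π : ∀ n, (Scheme.Modules.pullback (i' ≫ g)).obj (In n) ⟶ G n)
    (π' : ∀ n, (Scheme.Modules.pullback (i' ≫ g)).obj (In n) ⟶ G' n)
    (hc : ∀ n, Coh.IsCoh (In n)) (hIf : FlatMod.IsFlatOver f (In 0))
    (hIs : TFOne.IsTF1 Xs ((Scheme.Modules.pullback (i' ≫ g)).obj (In 0)))
    (hG : ∀ n, TFOne.IsQuotOn Xs ((Scheme.Modules.pullback (i' ≫ g)).obj (In n)) Y (G n) (π n))
    (hG' : ∀ n, TFOne.IsQuotOn Xs ((Scheme.Modules.pullback (i' ≫ g)).obj (In n)) Y' (G' n) (π' n))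
    (hY' : ∀ η : Xs, IsMaxPt η → (η ∈ Y' ↔ η ∉ Y))
    (hdec : ∀ n, IsIso (biprod.lift (π n) (π' n)))
    (hstep : ∀ n, In (n + 1) = kernel ((Scheme.Modules.pullbackPushforwardAdjunction (i' ≫ g)).unit.app (In n) ≫
      (Scheme.Modules.pushforward (i' ≫ g)).map (π n))) :
    ∃ (F : X'.Modules) (p : (Scheme.Modules.pullback g).obj (In 0) ⟶ F), Epi p ∧ Coh.IsCoh F ∧
      FlatMod.IsFlatOver f' F ∧ ∃ e : (Scheme.Modules.pullback i').obj F ≅ G 0,
        (Scheme.Modules.pullback i').map p ≫ e.hom = (Scheme.Modules.pullbackComp i' g).hom.app (In 0) ≫ π 0 := by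
  let κ' := IsLocalRing.ResidueField R'
  have hk := ker_eq_maximalIdeal hψ
  let e : κ' →+* κ := Ideal.Quotient.lift _ ψ fun a ha => RingHom.mem_ker.1 (hk ▸ ha)
  have he : Function.Bijective e := ⟨RingHom.injective _, fun c => by
    obtain ⟨a, rfl⟩ := hψ c
    exact ⟨IsLocalRing.residue R' a, rfl⟩⟩
  haveI : IsIso (CommRingCat.ofHom e) := (ConcreteCategory.isIso_iff_bijective _).2 he
  letI : Xs.Over (Spec (CommRingCat.of κ')) := ⟨(Xs ↘ Spec (CommRingCat.of κ)) ≫ Spec.map (CommRingCat.ofHom e)⟩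
  have hsqR : IsPullback i' (Xs ↘ Spec (CommRingCat.of κ')) f'
      (Spec.map (CommRingCat.ofHom (IsLocalRing.residue R'))) :=
    IsPullback.of_iso hsq' (Iso.refl _) (Iso.refl _) (asIso (Spec.map (CommRingCat.ofHom e))) (Iso.refl _)
      (by simp) rfl (by simp) (by
        rw [Iso.refl_hom, Category.comp_id, asIso_hom, ← Spec.map_comp]
        rfl)
  obtain ⟨t, ht⟩ := IsDiscreteValuationRing.exists_irreducible R
  haveI : IsLocallyNoetherian X := LocallyOfFiniteType.isLocallyNoetherian f
  haveI : IsLocallyNoetherian X' := LocallyOfFiniteType.isLocallyNoetherian f'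
  haveI : IsClosedImmersion (Spec.map (CommRingCat.ofHom ψ)) := IsClosedImmersion.spec_of_surjective _ hψ
  haveI : IsClosedImmersion i' := MorphismProperty.of_isPullback hsq'.flip inferInstance
  haveI : IsClosedImmersion (Spec.map (CommRingCat.ofHom (ψ.comp φ))) := IsClosedImmersion.spec_of_surjective _ hρ
  haveI : IsClosedImmersion (i' ≫ g) := MorphismProperty.of_isPullback hsq.flip inferInstance
  haveI : IsLocallyNoetherian Xs := LocallyOfFiniteType.isLocallyNoetherian i'
  have hrange : ∀ y, g y ∈ Set.range (i' ≫ g) → y ∈ Set.range i' := fun y hy => by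
    rw [mem_range_iff hψ hsq']
    have h1 := (mem_range_iff hρ hsq).1 hy
    rw [← Scheme.Hom.comp_apply, hg.w, Scheme.Hom.comp_apply] at h1
    refine PrimeSpectrum.ext (((IsLocalRing.maximalIdeal.isMaximal R').eq_of_le (f' y).2.ne_top ?_).symm)
    rw [(hirr t ht).maximalIdeal_eq, Ideal.span_singleton_le_iff_mem]
    exact (SetLike.ext_iff.1 (congrArg PrimeSpectrum.asIdeal h1) t).2
      (show t ∈ IsLocalRing.maximalIdeal R by rw [ht.maximalIdeal_eq]; exact Ideal.mem_span_singleton_self t)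
  have hker : ∀ x, RingHom.ker (i'.stalkMap x).hom ≤
      Ideal.map (g.stalkMap (i' x)).hom (RingHom.ker ((i' ≫ g).stalkMap x).hom) := fun x => by
    rw [ker_stalkMap hsq' hψ (by rw [hk, (hirr t ht).maximalIdeal_eq]) x, Ideal.span_singleton_le_iff_mem,
      ← stalkMap_gt hg (i' x) t]
    refine Ideal.mem_map_of_mem _ ?_
    have := ker_stalkMap hsq hρ (by rw [ker_eq_maximalIdeal hρ, ht.maximalIdeal_eq]) x
    exact this.ge (Ideal.mem_span_singleton_self _)
  haveI := fun n => (hc n).1
  -- the pulled back tower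
  let step : ∀ (n : ℕ) (s : Σ M : X'.Modules, M ≅ (Scheme.Modules.pullback g).obj (In n)),
      Σ M : X'.Modules, M ≅ (Scheme.Modules.pullback g).obj (In (n + 1)) := fun n s =>
    ⟨kernel ((Scheme.Modules.pullbackPushforwardAdjunction i').unit.app s.1 ≫
        (Scheme.Modules.pushforward i').map (pullQuot i' g (π n) s.2)),
      (nonempty_kernel_iso i' g hrange hker (π n) s.2).some ≪≫
        (Scheme.Modules.pullback g).mapIso (eqToIso (hstep n).symm)⟩
  let seq : ∀ n, Σ M : X'.Modules, M ≅ (Scheme.Modules.pullback g).obj (In n) :=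
    fun n => Nat.rec ⟨(Scheme.Modules.pullback g).obj (In 0), Iso.refl _⟩ step n
  let c : ∀ n, (Scheme.Modules.pullback i').obj (seq n).1 ≅ (Scheme.Modules.pullback (i' ≫ g)).obj (In n) :=
    fun n => (Scheme.Modules.pullback i').mapIso (seq n).2 ≪≫ (Scheme.Modules.pullbackComp i' g).app (In n)
  have hq : ∀ n, pullQuot i' g (π n) (seq n).2 = (c n).hom ≫ π n := fun n => by simp [c, pullQuot]
  obtain ⟨F, p, hp, hF, hFfl, e', he'⟩ := exists_flat_quotient hsqR (hirr t ht) (fun n => (seq n).1) G G'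
    (fun n => pullQuot i' g (π n) (seq n).2) (fun n => (c n).hom ≫ π' n) (fun n => rfl)
    (PullbackMod.isCoh_pullback g (In 0) (hc 0))
    (fun y => PullbackMod.isFlatOverAt_baseChange hg (In 0) y (hIf (g y)))
    (isTF1_iso (c 0) hIs) (fun n => by rw [hq n]; exact isQuotOn_pre (c n) (hG n))
    (fun n => isQuotOn_pre (c n) (hG' n)) hY'
    (fun n => by
      rw [hq n, show biprod.lift ((c n).hom ≫ π n) ((c n).hom ≫ π' n) = (c n).hom ≫ biprod.lift (π n) (π' n) from
        biprod.hom_ext _ _ (by simp) (by simp)]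
      haveI := hdec n
      infer_instance)
  refine ⟨F, p, hp, hF, hFfl, e', he'.trans ?_⟩
  show pullQuot i' g (π 0) (Iso.refl _) = _
  simp [pullQuot]

end Groth.Agent.TFLangLib
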