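import Groth.Agent.TFLangLib.Fibre
import Groth.Agent.TFLangLib.Iso
import Groth.Agent.DevLib.TFSub

/-!
# The numbers of the subcurves of one curve
-/

set_option autoImplicit false
set_option backward.isDefEq.respectTransparency false
set_option linter.style.haveILetI false

universe u

open CategoryTheory CategoryTheory.Limits AlgebraicGeometry TopologicalSpace Opposite

noncomputable section

namespace Groth.Agent.TFLangLib

open MeroLib (IsMaxPt)
open PullbackMod TFOneLib DCohLib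

variable {X : Scheme.{u}}

variable (X) in
/-- A union, possibly empty, of irreducible components. -/
def IsUC (T : Set X) : Prop := ∃ S ⊆ irreducibleComponents (X : Type u), T = Set.sUnion S

theorem isUC_of_isSubcurve {T : Set X} (h : VecSt.IsSubcurve X T) : IsUC X T :=
  let ⟨S, hS, _, e⟩ := h
  ⟨S, hS, e⟩

theorem isUC_univ : IsUC X Set.univ := ⟨_, subset_rfl, (sUnion_irreducibleComponents).symm⟩

theorem isUC_union {A B : Set X} (hA : IsUC X A) (hB : IsUC X B) : IsUC X (A ∪ B) := by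
  obtain ⟨S, hS, rfl⟩ := hA
  obtain ⟨T, hT, rfl⟩ := hB
  exact ⟨S ∪ T, Set.union_subset hS hT, (Set.sUnion_union S T).symm⟩

theorem isUC_sep (p : Set X → Prop) : IsUC X (Set.sUnion {C | C ∈ irreducibleComponents (X : Type u) ∧ p C}) :=
  ⟨_, fun _ h => h.1, rfl⟩

theorem IsUC.isClosed [NoetherianSpace X] {T : Set X} (h : IsUC X T) : IsClosed T := by
  obtain ⟨S, hS, rfl⟩ := h
  rw [Set.sUnion_eq_biUnion]
  exact Set.Finite.isClosed_biUnion ((NoetherianSpace.finite_irreducibleComponents (α := X)).subset hS)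
    fun C hC => isClosed_of_mem_irreducibleComponents C (hS hC)

theorem IsUC.finite [NoetherianSpace X] : {T : Set X | IsUC X T}.Finite :=
  (((NoetherianSpace.finite_irreducibleComponents (α := X)).finite_subsets).image Set.sUnion).subset
    fun T ⟨S, hS, e⟩ => ⟨S, hS, e.symm⟩

theorem IsUC.subset [NoetherianSpace X] {A B : Set X} (hA : IsUC X A) (hB : IsUC X B)
    (h : ∀ η, IsMaxPt η → η ∈ A → η ∈ B) : A ⊆ B := fun y hy => by
  obtain ⟨S, hS, e⟩ := hA
  obtain ⟨η, hη, hηA, hs⟩ := exists_maxPt_specializes hS e y hy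
  exact hs.mem_closed hB.isClosed (h η hη hηA)

theorem IsUC.ext [NoetherianSpace X] {A B : Set X} (hA : IsUC X A) (hB : IsUC X B)
    (h : ∀ η, IsMaxPt η → (η ∈ A ↔ η ∈ B)) : A = B :=
  (hA.subset hB fun η hη => (h η hη).1).antisymm (hB.subset hA fun η hη => (h η hη).2)

theorem IsUC.isSubcurve [NoetherianSpace X] {T : Set X} (h : IsUC X T) {η : X} (hη : η ∈ T) :
    VecSt.IsSubcurve X T := by
  obtain ⟨S, hS, rfl⟩ := h
  obtain ⟨C, hC, -⟩ := hη
  exact ⟨S, hS, ⟨C, hC⟩, rfl⟩

theorem IsUC.exists_maxPt_notMem [NoetherianSpace X] {T : Set X} (h : IsUC X T) (hne : T ≠ Set.univ) :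
    ∃ η, IsMaxPt η ∧ η ∉ T := by
  by_contra hh
  push Not at hh
  exact hne (h.ext isUC_univ fun η hη => iff_of_true (hh η hη) trivial)

theorem mem_meet_iff [NoetherianSpace X] {A B : Set X} (hA : IsUC X A) (hB : IsUC X B) {η : X} (hη : IsMaxPt η) :
    η ∈ Set.sUnion {C | C ∈ irreducibleComponents (X : Type u) ∧ C ⊆ A ∩ B} ↔ η ∈ A ∧ η ∈ B := by
  rw [mem_sUnion_iff ((isMaxPt_iff_genericPoints η).1 hη) (p := fun C => C ⊆ A ∩ B),
    closure_subset_iff (hA.isClosed.inter hB.isClosed), Set.mem_inter_iff]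

/-- The quotient exists on every union of components. -/
theorem exists_quotUC [IsReduced X] [IsNoetherian X] {M : X.Modules} (hM : TFOne.IsTF1 X M) {T : Set X}
    (hT : IsUC X T) : ∃ (G : X.Modules) (π : M ⟶ G), TFOne.IsQuotOn X M T G π := by
  obtain ⟨G, π, hG, hmem⟩ := exists_quot hM.1 hM.2.1 (fun η hη => mem_support_of_maxPt hM.2.2 hη) T
  obtain ⟨S, hS, e⟩ := id hT
  exact ⟨G, π, hG.1, hG.2.1, hG.2.2.1,
    support_eq_of_maxPt hG.2.1 hG.2.2.1 hT.isClosed (exists_maxPt_specializes hS e) hmem⟩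

variable (k : Type u) [Field k] [X.Over (Spec (CommRingCat.of k))]

open scoped Classical in
/-- The number `r χ(M_T) + deg(E|T)`. -/
def beta (E : X.Modules) (r : ℕ) (M : X.Modules) (T : Set X) : ℤ :=
  if h : IsClosed T ∧ ∃ (G : X.Modules) (π : M ⟶ G), TFOne.IsQuotOn X M T G π then
    TFOne.rBeta X k (X ↘ Spec (CommRingCat.of k)) T h.1 E r h.2.choose
  else 0

variable [IsReduced X] [IsProper (X ↘ Spec (CommRingCat.of k))] (hdim : topologicalKrullDim X ≤ 1)
  {E M : X.Modules} {r : ℕ} (hE : FlatMod.IsFinLocFreeOfRank r E) (hM : TFOne.IsTF1 X M)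

include hdim hE hM in
theorem beta_eq {T : Set X} (hT : IsClosed T) {G : X.Modules} {π : M ⟶ G} (hG : TFOne.IsQuotOn X M T G π) :
    TFOne.rBeta X k (X ↘ Spec (CommRingCat.of k)) T hT E r G = beta k E r M T := by
  haveI := EulerIneqLib.isNoetherian_proper (X := X) k
  have h : IsClosed T ∧ ∃ (G : X.Modules) (π : M ⟶ G), TFOne.IsQuotOn X M T G π := ⟨hT, G, π, hG⟩
  rw [beta, dif_pos h]
  exact rBeta_congr hdim hE hM.2.2 hT hT hG h.2.choose_spec.choose_spec fun _ _ => Iff.rfl

include hdim hE hM in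
theorem beta_empty : beta k E r M ∅ = 0 := by
  haveI := EulerIneqLib.isNoetherian_proper (X := X) k
  obtain ⟨G, π, hG⟩ := exists_quotUC hM (T := (∅ : Set X)) ⟨∅, Set.empty_subset _, Set.sUnion_empty.symm⟩
  rw [← beta_eq k hdim hE hM isClosed_empty hG]
  exact rBeta_empty hdim hM hE isClosed_empty (fun _ _ h => h.elim) hG

include hdim hE hM in
theorem beta_univ {d : ℤ} (hχ : Curv2.euler k X M = d) (hEd : Curv2.deg k X E r = -(r : ℤ) * d) :
    beta k E r M Set.univ = 0 := by
  haveI := EulerIneqLib.isNoetherian_proper (X := X) k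
  rw [← beta_eq k hdim hE hM isClosed_univ (isQuotOn_univ hM)]
  exact rBeta_univ hdim hE hχ hEd

include hdim hE hM in
theorem beta_union_le {A B : Set X} (hA : IsUC X A) (hB : IsUC X B) :
    beta k E r M (A ∪ B) + beta k E r M (Set.sUnion {C | C ∈ irreducibleComponents (X : Type u) ∧ C ⊆ A ∩ B}) ≤
      beta k E r M A + beta k E r M B := by
  classical
  haveI := EulerIneqLib.isNoetherian_proper (X := X) k
  have hU := isUC_union hA hB
  have hW : IsUC X (Set.sUnion {C | C ∈ irreducibleComponents (X : Type u) ∧ C ⊆ A ∩ B}) := isUC_sep _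
  obtain ⟨GA, πA, hGA⟩ := exists_quotUC hM hA
  obtain ⟨GB, πB, hGB⟩ := exists_quotUC hM hB
  obtain ⟨GU, πU, hGU⟩ := exists_quotUC hM hU
  obtain ⟨GW, πW, hGW⟩ := exists_quotUC hM hW
  rw [← beta_eq k hdim hE hM hA.isClosed hGA, ← beta_eq k hdim hE hM hB.isClosed hGB,
    ← beta_eq k hdim hE hM hU.isClosed hGU, ← beta_eq k hdim hE hM hW.isClosed hGW]
  simp only [rBeta_eq]
  have h1 := euler_union_add_inter_le (k := k) hdim hM (fun η _ => Set.mem_union η A B)
    (fun η hη => mem_meet_iff hA hB hη) hGA hGB hGU hGW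
  have h2 : degOn k E r (A ∪ B) hU.isClosed + degOn k E r _ hW.isClosed =
      degOn k E r A hA.isClosed + degOn k E r B hB.isClosed := by
    refine degOn_add_degOn k hdim hE _ _ _ _ fun η hη => ?_
    simp only [Set.indicator_apply, Set.mem_union, mem_meet_iff hA hB ((isMaxPt_iff_genericPoints η).2 hη)]
    by_cases hA' : η ∈ A <;> by_cases hB' : η ∈ B <;> simp [hA', hB']
  have h3 := mul_le_mul_of_nonneg_left h1 (Int.natCast_nonneg r)
  linarith

include hdim hE hM in
theorem isSemistable_iff_beta : TFOne.IsSemistable X k (X ↘ Spec (CommRingCat.of k)) M E r ↔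
    ∀ T, VecSt.IsSubcurve X T → T ≠ Set.univ → 0 ≤ beta k E r M T := by
  haveI := EulerIneqLib.isNoetherian_proper (X := X) k
  refine ⟨fun h T hT hne => ?_, fun h => ⟨hM, fun T hTc hT hne G π hG => ?_⟩⟩
  · obtain ⟨G, π, hG⟩ := exists_quotUC hM (isUC_of_isSubcurve hT)
    rw [← beta_eq k hdim hE hM (isUC_of_isSubcurve hT).isClosed hG]
    exact h.2 T _ hT hne G π hG
  · rw [beta_eq k hdim hE hM hTc hG]
    exact h T hT hne

include hdim hE hM in
theorem beta_nonneg_of_semistable {d : ℤ} (hχ : Curv2.euler k X M = d) (hEd : Curv2.deg k X E r = -(r : ℤ) * d)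
    (hss : TFOne.IsSemistable X k (X ↘ Spec (CommRingCat.of k)) M E r) {T : Set X} (hT : IsUC X T) :
    0 ≤ beta k E r M T := by
  haveI := EulerIneqLib.isNoetherian_proper (X := X) k
  rcases T.eq_empty_or_nonempty with rfl | ⟨η, hη⟩
  · rw [beta_empty k hdim hE hM]
  by_cases hu : T = Set.univ
  · rw [hu, beta_univ k hdim hE hM hχ hEd]
  · exact (isSemistable_iff_beta k hdim hE hM).1 hss T (hT.isSubcurve hη) hu

end Groth.Agent.TFLangLib
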