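import Groth.Agent.TFLangLib.Start
import Groth.Agent.TFLangLib.Curve
import Groth.Agent.TFOneLib.Tower
import Mathlib.FieldTheory.IsAlgClosed.AlgebraicClosure

/-!
# The modules with the given generic fibre
-/

set_option autoImplicit false
set_option backward.isDefEq.respectTransparency false
set_option backward.isDefEq.respectTransparency.types false
set_option linter.style.haveILetI false

universe u

open CategoryTheory CategoryTheory.Limits AlgebraicGeometry TopologicalSpace Opposite

noncomputable section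

namespace Groth.Agent.TFLangLib

open MeroLib (IsMaxPt)
open PullbackMod TFOneLib DCohLib

variable {R : Type u} [CommRing R] [IsDomain R] [IsDiscreteValuationRing R] {X : Scheme.{u}}

/-- The running hypothesis on a module: coherent, flat, torsion-free of rank one and of the given Euler
characteristic on the special fibre, and isomorphic to the given one on the generic fibre. -/
structure Good (f : X ⟶ Spec (CommRingCat.of R)) {Xs : Scheme.{u}}
    [Xs.Over (Spec (CommRingCat.of (IsLocalRing.ResidueField R)))] (i : Xs ⟶ X) {Xg : Scheme.{u}} (j : Xg ⟶ X)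
    (I M : X.Modules) : Prop where
  coh : Coh.IsCoh M
  flat : FlatMod.IsFlatOver f M
  tf : TFOne.IsTF1 Xs ((Scheme.Modules.pullback i).obj M)
  euler : Curv2.euler (IsLocalRing.ResidueField R) Xs ((Scheme.Modules.pullback i).obj M) =
    Curv2.euler (IsLocalRing.ResidueField R) Xs ((Scheme.Modules.pullback i).obj I)
  gen : Nonempty ((Scheme.Modules.pullback j).obj M ≅ (Scheme.Modules.pullback j).obj I)

variable {f : X ⟶ Spec (CommRingCat.of R)} [IsProper f] {Xs : Scheme.{u}}
  [Xs.Over (Spec (CommRingCat.of (IsLocalRing.ResidueField R)))] [IsReduced Xs] {i : Xs ⟶ X}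
  (hsq : IsPullback i (Xs ↘ Spec (CommRingCat.of (IsLocalRing.ResidueField R))) f
    (Spec.map (CommRingCat.ofHom (IsLocalRing.residue R))))
  (hpure : ∀ C ∈ irreducibleComponents (Xs : Type u), topologicalKrullDim C = 1)
  {Xg : Scheme.{u}} [Xg.Over (Spec (CommRingCat.of (FractionRing R)))] {j : Xg ⟶ X}
  (hgen : IsPullback j (Xg ↘ Spec (CommRingCat.of (FractionRing R))) f
    (Spec.map (CommRingCat.ofHom (algebraMap R (FractionRing R)))))
  {I M : X.Modules}

omit [IsReduced Xs] in
include hsq in
theorem isProper_special : IsProper (Xs ↘ Spec (CommRingCat.of (IsLocalRing.ResidueField R))) :=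
  MorphismProperty.of_isPullback (P := @IsProper) hsq inferInstance

omit [IsProper f] [IsReduced Xs] in
include hsq in
theorem isClosedImmersion_special : IsClosedImmersion i := by
  haveI : IsClosedImmersion (Spec.map (CommRingCat.ofHom (IsLocalRing.residue R))) :=
    IsClosedImmersion.spec_of_surjective _ IsLocalRing.residue_surjective
  exact MorphismProperty.of_isPullback hsq.flip inferInstance

include hpure in
omit [IsProper f] [IsReduced Xs] in
theorem dim_special : topologicalKrullDim Xs ≤ 1 :=
  topologicalKrullDim_le_of_components fun C hC => (hpure C hC).le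

omit [IsProper f] [IsReduced Xs] in
include hsq hgen in
theorem notMem_range_special (z : Xg) : j z ∉ Set.range i := fun h => by
  have h1 := (mem_range_iff IsLocalRing.residue_surjective hsq).1 h
  rw [← Scheme.Hom.comp_apply, hgen.w, Scheme.Hom.comp_apply] at h1
  have h2 := congrArg PrimeSpectrum.asIdeal h1
  change Ideal.comap (algebraMap R (FractionRing R)) _ = IsLocalRing.maximalIdeal R at h2
  rw [(Ideal.eq_bot_or_top ((Xg ↘ Spec (CommRingCat.of (FractionRing R))) z).asIdeal).resolve_right
    ((Xg ↘ Spec (CommRingCat.of (FractionRing R))) z).2.ne_top, ← RingHom.ker_eq_comap_bot,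
    (RingHom.injective_iff_ker_eq_bot _).1 (IsFractionRing.injective R (FractionRing R))] at h2
  exact IsDiscreteValuationRing.not_isField R (IsLocalRing.isField_iff_maximalIdeal_eq.2 h2.symm)

include hsq hpure hgen in
/-- The elementary modifications preserve the hypothesis. -/
theorem Good.step (hM : Good f i j I M) {Y : Set Xs} {G : Xs.Modules}
    {π : (Scheme.Modules.pullback i).obj M ⟶ G}
    (hG : TFOne.IsQuotOn Xs ((Scheme.Modules.pullback i).obj M) Y G π) :
    Good f i j I (kernel ((Scheme.Modules.pullbackPushforwardAdjunction i).unit.app M ≫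
      (Scheme.Modules.pushforward i).map π)) := by
  set s : M ⟶ (Scheme.Modules.pushforward i).obj G :=
    (Scheme.Modules.pullbackPushforwardAdjunction i).unit.app M ≫ (Scheme.Modules.pushforward i).map π
  haveI := isClosedImmersion_special hsq
  haveI := isProper_special hsq
  haveI : IsLocallyNoetherian X := LocallyOfFiniteType.isLocallyNoetherian f
  haveI := EulerIneqLib.isNoetherian_proper (X := Xs) (IsLocalRing.ResidueField R)
  obtain ⟨t, ht⟩ := IsDiscreteValuationRing.exists_irreducible R
  haveI := hM.coh.1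
  haveI := hG.1
  have hc : Coh.IsCoh (kernel s) := (QCohLib.isCoh_kernel_cokernel s hM.coh (DevLib.isCoh_pushforward_closed i hG.2.1)).1
  haveI := hc.1
  obtain ⟨hc', α, β, h⟩ := exists_modif i hsq ht.ne_zero IsLocalRing.residue_surjective
    (by rw [IsLocalRing.ker_residue, ht.maximalIdeal_eq]) hM.coh hM.flat hG.2.1 π (I' := kernel s) rfl
  have hJ : IsModif π α β := ⟨hc', fun x => (h x).1, fun x => (h x).2.1, fun x => (h x).2.2⟩
  refine ⟨hc, isFlatOver_of_regular ht _ fun y a b hab => ?_, hJ.isTF1 hM.tf hG,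
    (hJ.euler_eq hM.tf hG).trans hM.euler, ?_⟩
  · refine (mono_iff_stalk (kernel.ι s)).1 inferInstance y (isSMulRegular_gt ht.ne_zero hM.flat y ?_)
    show gt f y t • _ = gt f y t • _
    exact ((map_smul _ _ _).symm.trans (congrArg _ hab)).trans (map_smul _ _ _)
  · obtain ⟨e⟩ := hM.gen
    haveI : IsIso ((Scheme.Modules.pullback j).map (kernel.ι s)) := (isIso_iff_stalk _).2 fun z =>
      bijective_stalk_pullback j (kernel.ι s) z ⟨(mono_iff_stalk (kernel.ι s)).1 inferInstance _, fun w => by
        haveI := subsingleton_stalk_pushforward i G (j z) (notMem_range_special hsq hgen z)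
        exact exists_of_stalkLin_eq_zero s (j z) (Subsingleton.elim _ 0)⟩
    exact ⟨asIso ((Scheme.Modules.pullback j).map (kernel.ι s)) ≪≫ e⟩

include hsq in
/-- The given extension satisfies the hypothesis. -/
theorem good_start (hI : TFOne.IsRelTF1 f I) : Good f i j I I := by
  haveI := isProper_special hsq
  haveI := EulerIneqLib.isNoetherian_proper (X := Xs) (IsLocalRing.ResidueField R)
  haveI : IsLocallyNoetherian X := LocallyOfFiniteType.isLocallyNoetherian f
  let κ := IsLocalRing.ResidueField R
  let Ω := AlgebraicClosure κ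
  let s := Spec.map (CommRingCat.ofHom (algebraMap κ Ω))
  letI : (pullback (Xs ↘ Spec (CommRingCat.of κ)) s).Over (Spec (CommRingCat.of Ω)) := ⟨pullback.snd _ _⟩
  let q := pullback.fst (Xs ↘ Spec (CommRingCat.of κ)) s
  have hq : IsPullback q ((pullback (Xs ↘ Spec (CommRingCat.of κ)) s) ↘ Spec (CommRingCat.of Ω))
      (Xs ↘ Spec (CommRingCat.of κ)) s := IsPullback.of_hasPullback _ _
  have hc := isCoh_of_isFP' hI.2.1
  haveI := hc.1
  have h := hI.2.2 Ω _ _ (q ≫ i) _ (hq.paste_horiz hsq)
  exact ⟨hc, hI.1, isTF1_descend hq (PullbackMod.isCoh_pullback i I hc)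
    (isTF1_iso ((Scheme.Modules.pullbackComp q i).app I) h), rfl, ⟨Iso.refl _⟩⟩

omit [IsProper f] [IsReduced Xs] in
include hgen in
/-- A geometric point over the generic point factors through the generic fibre. -/
theorem exists_factor_generic {Ω : Type u} [Field Ω] {φ : R →+* Ω} {Xo : Scheme.{u}} {o : Xo ⟶ X}
    {q : Xo ⟶ Spec (CommRingCat.of Ω)} (hφ : Function.Injective φ)
    (ho : IsPullback o q f (Spec.map (CommRingCat.ofHom φ))) :
    ∃ (o' : Xo ⟶ Xg) (χ : FractionRing R →+* Ω),
      IsPullback o' q (Xg ↘ Spec (CommRingCat.of (FractionRing R))) (Spec.map (CommRingCat.ofHom χ)) ∧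
      o' ≫ j = o ∧ χ.comp (algebraMap R (FractionRing R)) = φ := by
  let χ : FractionRing R →+* Ω := IsFractionRing.lift hφ
  have hχ : χ.comp (algebraMap R (FractionRing R)) = φ := RingHom.ext fun a => IsFractionRing.lift_algebraMap hφ a
  have hs : Spec.map (CommRingCat.ofHom χ) ≫ Spec.map (CommRingCat.ofHom (algebraMap R (FractionRing R))) =
      Spec.map (CommRingCat.ofHom φ) := by
    rw [← Spec.map_comp, ← CommRingCat.ofHom_comp, hχ]
  let o' := hgen.lift o (q ≫ Spec.map (CommRingCat.ofHom χ)) (by rw [Category.assoc, hs]; exact ho.w)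
  exact ⟨o', χ, IsPullback.of_right (by rw [hgen.lift_fst, hs]; exact ho) (hgen.lift_snd _ _ _) hgen,
    hgen.lift_fst _ _ _, hχ⟩

variable {Ω : Type u} [Field Ω] [IsAlgClosed Ω] {φ : R →+* Ω} {Xo : Scheme.{u}} {o : Xo ⟶ X}
  {q : Xo ⟶ Spec (CommRingCat.of Ω)} (hφ : Function.Injective φ)
  (ho : IsPullback o q f (Spec.map (CommRingCat.ofHom φ)))

omit [IsReduced Xs] in
include hgen hφ ho in
theorem Good.gen_tf1 (hM : Good f i j I M) (hI : TFOne.IsRelTF1 f I) :
    TFOne.IsTF1 Xo ((Scheme.Modules.pullback o).obj M) := by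
  obtain ⟨o', χ, -, rfl, -⟩ := exists_factor_generic hgen hφ ho
  obtain ⟨e⟩ := hM.gen
  exact isTF1_iso (((Scheme.Modules.pullbackComp o' j).app M).symm ≪≫ (Scheme.Modules.pullback o').mapIso e ≪≫
    (Scheme.Modules.pullbackComp o' j).app I) (hI.2.2 Ω _ Xo _ q ho)

omit [IsProper f] [IsReduced Xs] in
include hgen hφ ho in
theorem Good.gen_simple (hM : Good f i j I M)
    (hIg : TFOne.FibSimple (Xg ↘ Spec (CommRingCat.of (FractionRing R))) ((Scheme.Modules.pullback j).obj I)) :
    TFOne.IsSimple Xo Ω q ((Scheme.Modules.pullback o).obj M) := by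
  obtain ⟨o', χ, ho', rfl, -⟩ := exists_factor_generic hgen hφ ho
  obtain ⟨e⟩ := hM.gen
  exact isSimple_iso q (((Scheme.Modules.pullbackComp o' j).app M).symm ≪≫ (Scheme.Modules.pullback o').mapIso e)
    (hIg Ω _ Xo o' q ho')

variable {E : X.Modules} {r : ℕ}

omit [IsReduced Xs] in
include hgen hφ ho in
theorem Good.gen_semistable (hM : Good f i j I M)
    (hIg : TFOne.FibSemistable (Xg ↘ Spec (CommRingCat.of (FractionRing R))) ((Scheme.Modules.pullback j).obj I)
      ((Scheme.Modules.pullback j).obj E) r) :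
    TFOne.IsSemistable Xo Ω q ((Scheme.Modules.pullback o).obj M) ((Scheme.Modules.pullback o).obj E) r := by
  haveI : IsProper q := MorphismProperty.of_isPullback (P := @IsProper) ho inferInstance
  obtain ⟨o', χ, ho', rfl, -⟩ := exists_factor_generic hgen hφ ho
  obtain ⟨e⟩ := hM.gen
  exact isSemistable_iso q (((Scheme.Modules.pullbackComp o' j).app M).symm ≪≫ (Scheme.Modules.pullback o').mapIso e)
    ((Scheme.Modules.pullbackComp o' j).app E).symm (hIg Ω _ Xo o' q ho')

omit [IsReduced Xs] in
include hgen hφ ho in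
theorem Good.gen_quasistable (hM : Good f i j I M) {σ : Spec (CommRingCat.of R) ⟶ X}
    {σg : Spec (CommRingCat.of (FractionRing R)) ⟶ Xg}
    {hσg : σg ≫ (Xg ↘ Spec (CommRingCat.of (FractionRing R))) = 𝟙 _}
    (hσgj : σg ≫ j = Spec.map (CommRingCat.ofHom (algebraMap R (FractionRing R))) ≫ σ)
    (hIg : TFOne.FibQuasistableAlong (Xg ↘ Spec (CommRingCat.of (FractionRing R)))
      ((Scheme.Modules.pullback j).obj I) ((Scheme.Modules.pullback j).obj E) σg hσg r)
    (y : Spec (CommRingCat.of Ω) ⟶ Xo) (hy : y ≫ o = Spec.map (CommRingCat.ofHom φ) ≫ σ) (hy' : y ≫ q = 𝟙 _) :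
    TFOne.IsQuasistableAtPt Xo Ω q ((Scheme.Modules.pullback o).obj M) ((Scheme.Modules.pullback o).obj E) r
      (y (IsLocalRing.closedPoint Ω)) := by
  haveI : IsProper q := MorphismProperty.of_isPullback (P := @IsProper) ho inferInstance
  obtain ⟨o', χ, ho', rfl, hχ⟩ := exists_factor_generic hgen hφ ho
  obtain ⟨e⟩ := hM.gen
  refine isQuasistableAtPt_iso q (((Scheme.Modules.pullbackComp o' j).app M).symm ≪≫
    (Scheme.Modules.pullback o').mapIso e) ((Scheme.Modules.pullbackComp o' j).app E).symm
    (hIg Ω _ Xo o' q ho' y (hgen.hom_ext ?_ ?_) hy')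
  · rw [Category.assoc, hy, Category.assoc, hσgj, ← Category.assoc, ← Spec.map_comp, ← CommRingCat.ofHom_comp, hχ]
  · rw [Category.assoc, ho'.w, ← Category.assoc, hy', Category.id_comp, Category.assoc, hσg, Category.comp_id]

end Groth.Agent.TFLangLib
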