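import Groth.Agent.TFOneLib.Beta
import Groth.Agent.TFOneLib.Decomp

/-!
# Idempotent endomorphisms of torsion-free rank one modules
-/

set_option autoImplicit false
set_option backward.isDefEq.respectTransparency false
set_option linter.style.haveILetI false

universe u

open CategoryTheory CategoryTheory.Limits AlgebraicGeometry TopologicalSpace Opposite

noncomputable section

namespace Groth.Agent.TFLangLib

open MeroLib (IsMaxPt)
open PullbackMod TFOneLib

variable {X : Scheme.{u}} [IsReduced X] [IsLocallyNoetherian X] {M : X.Modules}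

/-- An idempotent is zero or one at a maximal point. -/
theorem idem_stalk (hM : TFOne.IsTF1 X M) {e : M ⟶ M} (he : e ≫ e = e) {η : X} (hη : IsMaxPt η) :
    stalkLin e η = 0 ∨ stalkLin e η = LinearMap.id := by
  obtain ⟨Θ, hΘ⟩ := exists_eigen hM.2.2 hη
  letI := (MeroLib.isField_stalk hη).toField
  rcases IsIdempotentElem.iff_eq_zero_or_one.1
    (show IsIdempotentElem (Θ e) from (map_mul Θ (show End M from e) (show End M from e)).symm.trans (congrArg Θ he)) with h0 | h1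
  · exact Or.inl (LinearMap.ext fun z => by rw [hΘ, h0, zero_smul, LinearMap.zero_apply])
  · exact Or.inr (LinearMap.ext fun z => by rw [hΘ, h1, one_smul, LinearMap.id_apply])

theorem id_ne_zero_stalk (hM : TFOne.IsTF1 X M) {η : X} (hη : IsMaxPt η) :
    (LinearMap.id : M.presheaf.stalk η →ₗ[X.presheaf.stalk η] M.presheaf.stalk η) ≠ 0 := fun h => by
  obtain ⟨z, hz, -⟩ := exists_basis hM.2.2 hη
  exact hz (LinearMap.congr_fun h z)

/-- Maps to a torsion-free module are determined at the maximal points. -/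
theorem hom_ext_maxPt {A B : X.Modules} [Coh.IsQCoh B] (hB : TorSh.IsTorsionFree B) {f g : A ⟶ B}
    (h : ∀ η, IsMaxPt η → stalkLin f η = stalkLin g η) : f = g :=
  sub_eq_zero.1 (hom_eq_zero hB _ fun η hη => by rw [stalkLin_sub, h η hη, sub_self])

/-- An idempotent by its values at the maximal points. -/
theorem idem_of_stalk (hM : TFOne.IsTF1 X M) (e : M ⟶ M)
    (h : ∀ η, IsMaxPt η → stalkLin e η = 0 ∨ stalkLin e η = LinearMap.id) : e ≫ e = e := by
  haveI := hM.1.1
  refine hom_ext_maxPt hM.2.1 fun η hη => ?_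
  rw [stalkLin_comp]
  rcases h η hη with h0 | h1
  · rw [h0, LinearMap.comp_zero]
  · rw [h1, LinearMap.comp_id]

variable {Y Y' : Set X} {G₁ G₂ : X.Modules} {π₁ : M ⟶ G₁} {π₂ : M ⟶ G₂}

/-- The decomposition belonging to an idempotent. -/
theorem isIso_lift_of_idem (hM : TFOne.IsTF1 X M) (h₁ : TFOne.IsQuotOn X M Y G₁ π₁)
    (h₂ : TFOne.IsQuotOn X M Y' G₂ π₂) (hY' : ∀ η, IsMaxPt η → (η ∈ Y' ↔ η ∉ Y)) {e : M ⟶ M}
    (he1 : ∀ η, IsMaxPt η → η ∈ Y → stalkLin e η = LinearMap.id)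
    (he0 : ∀ η, IsMaxPt η → η ∉ Y → stalkLin e η = 0) : IsIso (biprod.lift π₁ π₂) := by
  haveI := hM.1.1
  haveI := h₁.2.1.1
  haveI := h₂.2.1.1
  haveI := h₁.1
  haveI := h₂.1
  have hf : ∀ η z, stalkLin (biprod.fst : G₁ ⊞ G₂ ⟶ G₁) η (stalkLin (biprod.lift π₁ π₂) η z) = stalkLin π₁ η z :=
    fun η z => stalkLin_eq_of_comp (biprod.lift_fst _ _) η z
  have hs : ∀ η z, stalkLin (biprod.snd : G₁ ⊞ G₂ ⟶ G₂) η (stalkLin (biprod.lift π₁ π₂) η z) = stalkLin π₂ η z :=
    fun η z => stalkLin_eq_of_comp (biprod.lift_snd _ _) η z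
  haveI : Mono (biprod.lift π₁ π₂) := by
    refine mono_of_maxPt hM.2.1 _ fun η hη => (injective_iff_map_eq_zero _).2 fun z hz => ?_
    by_cases hY : η ∈ Y
    · exact (bijective_stalk hM.2.2 h₁ hη hY).1 (by rw [map_zero, ← hf, hz, map_zero])
    · exact (bijective_stalk hM.2.2 h₂ hη ((hY' η hη).2 hY)).1 (by rw [map_zero, ← hs, hz, map_zero])
  have e1 : e ≫ π₁ = π₁ := hom_ext_maxPt h₁.2.2.1 fun η hη => by
    rw [stalkLin_comp]
    by_cases h : η ∈ Y
    · rw [he1 η hη h, LinearMap.comp_id]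
    · exact LinearMap.ext fun z => (stalk_zero_of_notMem h₁ h _).trans (stalk_zero_of_notMem h₁ h _).symm
  have e2 : e ≫ π₂ = 0 := hom_eq_zero h₂.2.2.1 _ fun η hη => by
    rw [stalkLin_comp]
    by_cases h : η ∈ Y
    · exact LinearMap.ext fun z => stalk_zero_of_notMem h₂ (fun h' => (hY' η hη).1 h' h) _
    · rw [he0 η hη h, LinearMap.comp_zero]
  refine (isIso_iff_stalk _).2 fun x => ⟨(mono_iff_stalk _).1 inferInstance x, fun w => ?_⟩
  obtain ⟨z, hz⟩ := (epi_iff_stalk π₁).1 inferInstance x (stalkLin (biprod.fst : G₁ ⊞ G₂ ⟶ G₁) x w)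
  obtain ⟨z', hz'⟩ := (epi_iff_stalk π₂).1 inferInstance x (stalkLin (biprod.snd : G₁ ⊞ G₂ ⟶ G₂) x w)
  refine ⟨stalkLin e x z + (z' - stalkLin e x z'), sub_eq_zero.1 (biprod_ext_stalk x ?_ ?_)⟩
  · rw [map_sub, hf, map_add, map_sub, stalkLin_eq_of_comp e1, stalkLin_eq_of_comp e1, hz, sub_self, add_zero, sub_self]
  · rw [map_sub, hs, map_add, map_sub, stalkLin_apply_zero e2, stalkLin_apply_zero e2, hz', sub_zero, zero_add, sub_self]

/-- The idempotent of a decomposition. -/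
theorem exists_idem_of_isIso (hM : TFOne.IsTF1 X M) (h₁ : TFOne.IsQuotOn X M Y G₁ π₁)
    (h₂ : TFOne.IsQuotOn X M Y' G₂ π₂) (hY' : ∀ η, IsMaxPt η → (η ∈ Y' ↔ η ∉ Y)) [IsIso (biprod.lift π₁ π₂)] :
    ∃ e : M ⟶ M, (∀ η, IsMaxPt η → η ∈ Y → stalkLin e η = LinearMap.id) ∧
      ∀ η, IsMaxPt η → η ∉ Y → stalkLin e η = 0 := by
  let L := biprod.lift π₁ π₂
  let φ : M ⟶ M := π₁ ≫ biprod.inl ≫ inv L
  have h1 : φ ≫ L = π₁ ≫ biprod.inl := by simp only [φ, Category.assoc, IsIso.inv_hom_id, Category.comp_id]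
  have hY : φ ≫ π₁ = π₁ := by
    rw [show π₁ = L ≫ biprod.fst from (biprod.lift_fst _ _).symm, ← Category.assoc, h1, Category.assoc,
      biprod.inl_fst, Category.comp_id, biprod.lift_fst]
  have hZ : φ ≫ π₂ = 0 := by
    rw [show π₂ = L ≫ biprod.snd from (biprod.lift_snd _ _).symm, ← Category.assoc, h1, Category.assoc,
      biprod.inl_snd, comp_zero]
  refine ⟨φ, fun η hη h => LinearMap.ext fun z => (bijective_stalk hM.2.2 h₁ hη h).1 ?_,
    fun η hη h => LinearMap.ext fun z => (bijective_stalk hM.2.2 h₂ hη ((hY' η hη).2 h)).1 ?_⟩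
  · rw [stalkLin_eq_of_comp hY, LinearMap.id_apply]
  · rw [stalkLin_apply_zero hZ, LinearMap.zero_apply, map_zero]

/-- A smallest idempotent which is one at a given maximal point. -/
theorem exists_min_idem [NoetherianSpace X] (hM : TFOne.IsTF1 X M) {η₀ : X} (h₀ : IsMaxPt η₀) :
    ∃ e : M ⟶ M, e ≫ e = e ∧ stalkLin e η₀ = LinearMap.id ∧
      ∀ e' : M ⟶ M, e' ≫ e' = e' → stalkLin e' η₀ = LinearMap.id →
        ∀ η, IsMaxPt η → stalkLin e η = LinearMap.id → stalkLin e' η = LinearMap.id := by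
  classical
  have hfin : {η : X | IsMaxPt η}.Finite :=
    (PicCurveLib.finite_genPts (Y := X)).subset fun η hη => (isMaxPt_iff_genericPoints η).1 hη
  let c : (M ⟶ M) → ℕ := fun e => {η : X | IsMaxPt η ∧ stalkLin e η = LinearMap.id}.ncard
  have hP : ∃ n, ∃ e : M ⟶ M, e ≫ e = e ∧ stalkLin e η₀ = LinearMap.id ∧ c e = n :=
    ⟨_, 𝟙 M, Category.id_comp _, stalkLin_id η₀, rfl⟩
  obtain ⟨e, he, he₀, hc⟩ := Nat.find_spec hP
  refine ⟨e, he, he₀, fun e' he' he'₀ η hη heη => ?_⟩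
  by_contra hne
  have hlt : c (e ≫ e') < c e := by
    refine Set.ncard_lt_ncard ⟨fun ξ ⟨hξ, h⟩ => ⟨hξ, ?_⟩, fun hsub => hne ?_⟩ (hfin.subset fun ξ h => h.1)
    · rcases idem_stalk hM he hξ with h0 | h1
      · rw [stalkLin_comp, h0, LinearMap.comp_zero] at h
        exact absurd h.symm (id_ne_zero_stalk hM hξ)
      · exact h1
    · have := (hsub ⟨hη, heη⟩).2
      rwa [stalkLin_comp, heη, LinearMap.comp_id] at this
  refine Nat.find_min hP (hc ▸ hlt) ⟨e ≫ e', idem_of_stalk hM _ fun ξ hξ => ?_, ?_, rfl⟩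
  · rw [stalkLin_comp]
    rcases idem_stalk hM he hξ with h0 | h1
    · exact Or.inl (by rw [h0, LinearMap.comp_zero])
    · rw [h1, LinearMap.comp_id]
      exact idem_stalk hM he' hξ
  · rw [stalkLin_comp, he₀, he'₀, LinearMap.comp_id]

/-- An idempotent of a modification along a split quotient comes from one of the module. -/
theorem exists_idem_of_modif {P J : X.Modules} {π : M ⟶ P} {α : P ⟶ J} {β : J ⟶ M} {T : Set X}
    (hM : TFOne.IsTF1 X M) (hP : TFOne.IsQuotOn X M T P π) (hJ : IsModif π α β) {ε : M ⟶ M}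
    (hε1 : ∀ η, IsMaxPt η → η ∈ T → stalkLin ε η = LinearMap.id)
    (hε0 : ∀ η, IsMaxPt η → η ∉ T → stalkLin ε η = 0) {e : J ⟶ J} (he : e ≫ e = e) :
    ∃ e' : M ⟶ M, e' ≫ e' = e' ∧
      ∀ η, IsMaxPt η → (stalkLin e' η = LinearMap.id ↔ stalkLin e η = LinearMap.id) := by
  haveI := hM.1.1
  haveI := hP.2.1.1
  haveI := hP.1
  have hJ1 := hJ.isTF1 hM hP
  haveI := hJ1.1.1
  have hβT : ∀ η, IsMaxPt η → η ∈ T → ∀ z, stalkLin β η z = 0 := fun η hη h z =>
    (bijective_stalk hM.2.2 hP hη h).1 (((hJ.exact₂ η).apply_apply_eq_zero z).trans (map_zero _).symm)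
  have hεπ : kernel.ι π ≫ ε = 0 := hom_eq_zero hM.2.1 _ fun η hη => LinearMap.ext fun z => by
    rw [stalkLin_comp, LinearMap.comp_apply, LinearMap.zero_apply]
    by_cases h : η ∈ T
    · rw [(bijective_stalk hM.2.2 hP hη h).1 ((stalkLin_apply_zero (kernel.condition π) η z).trans (map_zero _).symm),
        map_zero]
    · rw [hε0 η hη h, LinearMap.zero_apply]
  let s : P ⟶ M := Abelian.epiDesc π ε hεπ
  have hs : π ≫ s = ε := Abelian.comp_epiDesc _ _ _
  let u : P ⟶ kernel β := kernel.lift β α ((eq_zero_iff_stalk _).2 fun x => LinearMap.ext fun z => by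
    rw [stalkLin_comp, LinearMap.comp_apply, (hJ.exact₁ x).apply_apply_eq_zero, LinearMap.zero_apply])
  have hu : u ≫ kernel.ι β = α := kernel.lift_ι _ _ _
  haveI : IsIso u := (isIso_iff_stalk u).2 fun x => by
    refine ⟨fun a b h => hJ.inj x ?_, fun v => ?_⟩
    · rw [← stalkLin_eq_of_comp hu, h, stalkLin_eq_of_comp hu]
    · obtain ⟨p, hp⟩ := (hJ.exact₁ x _).1 (stalkLin_apply_zero (kernel.condition β) x v)
      exact ⟨p, (mono_iff_stalk (kernel.ι β)).1 inferInstance x ((stalkLin_eq_of_comp hu x p).trans hp)⟩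
  have hαeβ : (α ≫ e) ≫ β = 0 := hom_eq_zero hM.2.1 _ fun η hη => LinearMap.ext fun z => by
    rw [stalkLin_comp, LinearMap.comp_apply, LinearMap.zero_apply]
    by_cases h : η ∈ T
    · exact hβT η hη h _
    · rw [stalk_zero_of_notMem hP h z, map_zero, map_zero]
  let eP : P ⟶ P := kernel.lift β (α ≫ e) hαeβ ≫ inv u
  have heP : eP ≫ α = α ≫ e := by
    rw [← hu, show eP ≫ u ≫ kernel.ι β = (eP ≫ u) ≫ kernel.ι β from (Category.assoc _ _ _).symm,
      show eP ≫ u = kernel.lift β (α ≫ e) hαeβ by simp [eP], kernel.lift_ι, hu]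
  let b : J ⟶ kernel π := kernel.lift π β ((eq_zero_iff_stalk _).2 fun x => LinearMap.ext fun z => by
    rw [stalkLin_comp, LinearMap.comp_apply, (hJ.exact₂ x).apply_apply_eq_zero, LinearMap.zero_apply])
  have hb : b ≫ kernel.ι π = β := kernel.lift_ι _ _ _
  haveI : Epi b := (epi_iff_stalk b).2 fun x v => by
    obtain ⟨j, hj⟩ := (hJ.exact₂ x _).1 (stalkLin_apply_zero (kernel.condition π) x v)
    exact ⟨j, (mono_iff_stalk (kernel.ι π)).1 inferInstance x ((stalkLin_eq_of_comp hb x j).trans hj)⟩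
  have hbe : kernel.ι b ≫ e ≫ b = 0 := by
    rw [← cancel_mono (kernel.ι π), zero_comp]
    refine hom_eq_zero hM.2.1 _ fun η hη => LinearMap.ext fun z => ?_
    simp only [stalkLin_comp, LinearMap.comp_apply, LinearMap.zero_apply]
    rw [stalkLin_eq_of_comp hb]
    have h0 : stalkLin β η (stalkLin (kernel.ι b) η z) = 0 := by
      rw [← stalkLin_eq_of_comp hb, stalkLin_apply_zero (kernel.condition b), map_zero]
    rcases idem_stalk hJ1 he hη with he0 | he1
    · rw [he0, LinearMap.zero_apply, map_zero]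
    · rw [he1, LinearMap.id_apply, h0]
  let eK : kernel π ⟶ kernel π := Abelian.epiDesc b (e ≫ b) hbe
  have heK : b ≫ eK = e ≫ b := Abelian.comp_epiDesc _ _ _
  let l : M ⟶ kernel π := kernel.lift π (𝟙 M - ε) (hom_eq_zero hP.2.2.1 _ fun η hη => LinearMap.ext fun z => by
    rw [stalkLin_comp, LinearMap.comp_apply, LinearMap.zero_apply, stalkLin_sub, stalkLin_id, LinearMap.sub_apply,
      LinearMap.id_apply]
    by_cases h : η ∈ T
    · rw [hε1 η hη h, LinearMap.id_apply, sub_self, map_zero]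
    · exact stalk_zero_of_notMem hP h _)
  have hl : l ≫ kernel.ι π = 𝟙 M - ε := kernel.lift_ι _ _ _
  let e' : M ⟶ M := π ≫ eP ≫ s + l ≫ eK ≫ kernel.ι π
  have key : ∀ η, IsMaxPt η → (stalkLin e η = 0 → stalkLin e' η = 0) ∧
      (stalkLin e η = LinearMap.id → stalkLin e' η = LinearMap.id) := fun η hη => by
    have happ : ∀ z, stalkLin e' η z = stalkLin s η (stalkLin eP η (stalkLin π η z)) +
        stalkLin (kernel.ι π) η (stalkLin eK η (stalkLin l η z)) := fun z => by
      simp only [e', stalkLin_add, stalkLin_comp, LinearMap.add_apply, LinearMap.comp_apply]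
    by_cases h : η ∈ T
    · have h2 : ∀ z, stalkLin (kernel.ι π) η (stalkLin eK η (stalkLin l η z)) = 0 := fun z => by
        refine (bijective_stalk hM.2.2 hP hη h).1 ?_
        rw [stalkLin_apply_zero (kernel.condition π), map_zero]
      refine ⟨fun he0 => LinearMap.ext fun z => ?_, fun he1 => LinearMap.ext fun z => ?_⟩
      · have : stalkLin eP η (stalkLin π η z) = 0 := hJ.inj η (by
          rw [map_zero, stalkLin_eq_of_comp heP, stalkLin_comp, LinearMap.comp_apply, he0, LinearMap.zero_apply])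
        rw [happ, h2, this, map_zero, zero_add, LinearMap.zero_apply]
      · have : stalkLin eP η (stalkLin π η z) = stalkLin π η z := hJ.inj η (by
          rw [stalkLin_eq_of_comp heP, stalkLin_comp, LinearMap.comp_apply, he1, LinearMap.id_apply])
        rw [happ, h2, this, stalkLin_eq_of_comp hs, hε1 η hη h, add_zero]
    · have h2 : ∀ z, stalkLin s η (stalkLin eP η (stalkLin π η z)) = 0 := fun z => by
        rw [stalk_zero_of_notMem hP h (stalkLin π η z), map_zero, map_zero]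
      have hlz : ∀ z, ∃ j, stalkLin b η j = stalkLin l η z := fun z => (epi_iff_stalk b).1 inferInstance η _
      refine ⟨fun he0 => LinearMap.ext fun z => ?_, fun he1 => LinearMap.ext fun z => ?_⟩
      · obtain ⟨j, hj⟩ := hlz z
        rw [happ, h2, ← hj, stalkLin_eq_of_comp heK, stalkLin_comp, LinearMap.comp_apply, he0,
          LinearMap.zero_apply, map_zero, map_zero, zero_add, LinearMap.zero_apply]
      · obtain ⟨j, hj⟩ := hlz z
        rw [happ, h2, ← hj, stalkLin_eq_of_comp heK, stalkLin_comp, LinearMap.comp_apply, he1,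
          LinearMap.id_apply, hj, stalkLin_eq_of_comp hl, stalkLin_sub, stalkLin_id, hε0 η hη h, sub_zero, zero_add]
  refine ⟨e', idem_of_stalk hM e' fun η hη => (idem_stalk hJ1 he hη).imp (key η hη).1 (key η hη).2,
    fun η hη => ⟨fun h => ?_, (key η hη).2⟩⟩
  rcases idem_stalk hJ1 he hη with h0 | h1
  · exact absurd (((key η hη).1 h0).symm.trans h).symm (id_ne_zero_stalk hM hη)
  · exact h1

section euler

variable {k : Type u} [Field k] [X.Over (Spec (CommRingCat.of k))] [IsProper (X ↘ Spec (CommRingCat.of k))]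

omit [IsReduced X] [IsLocallyNoetherian X] in
theorem euler_biprod {A B : X.Modules} (hA : Coh.IsCoh A) (hB : Coh.IsCoh B) :
    Curv2.euler k X (A ⊞ B) = Curv2.euler k X A + Curv2.euler k X B := by
  haveI := EulerIneqLib.isNoetherian_proper (X := X) k
  have h := CurveLib.euler_shortExact (K := k) (ShortComplex.Splitting.ofHasBinaryBiproduct A B).shortExact hA
    (FormalSys.isCoh_biprod hA hB) hB
  dsimp at h
  exact h

/-- Complementary quotients whose Euler characteristics add up decompose the module. -/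
theorem isIso_lift_of_euler (hdim : topologicalKrullDim X ≤ 1) (hM : TFOne.IsTF1 X M)
    (h₁ : TFOne.IsQuotOn X M Y G₁ π₁) (h₂ : TFOne.IsQuotOn X M Y' G₂ π₂)
    (hY' : ∀ η, IsMaxPt η → (η ∈ Y' ↔ η ∉ Y))
    (h : Curv2.euler k X M = Curv2.euler k X G₁ + Curv2.euler k X G₂) : IsIso (biprod.lift π₁ π₂) := by
  haveI := EulerIneqLib.isNoetherian_proper (X := X) k
  have hR := hM.2.2
  haveI := hM.1.1
  have hf : ∀ η z, stalkLin (biprod.fst : G₁ ⊞ G₂ ⟶ G₁) η (stalkLin (biprod.lift π₁ π₂) η z) = stalkLin π₁ η z :=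
    fun η z => stalkLin_eq_of_comp (biprod.lift_fst _ _) η z
  have hs : ∀ η z, stalkLin (biprod.snd : G₁ ⊞ G₂ ⟶ G₂) η (stalkLin (biprod.lift π₁ π₂) η z) = stalkLin π₂ η z :=
    fun η z => stalkLin_eq_of_comp (biprod.lift_snd _ _) η z
  haveI : Mono (biprod.lift π₁ π₂) := by
    refine mono_of_maxPt hM.2.1 _ fun η hη => (injective_iff_map_eq_zero _).2 fun z hz => ?_
    by_cases hY : η ∈ Y
    · exact (bijective_stalk hR h₁ hη hY).1 (by rw [map_zero, ← hf, hz, map_zero])
    · exact (bijective_stalk hR h₂ hη ((hY' η hη).2 hY)).1 (by rw [map_zero, ← hs, hz, map_zero])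
  refine isIso_of_euler_eq (k := k) hdim hM.1 (FormalSys.isCoh_biprod h₁.2.1 h₂.2.1) _ (fun η hη e => ?_)
    (by rw [h, euler_biprod h₁.2.1 h₂.2.1])
  by_cases hY : η ∈ Y
  · obtain ⟨z, hz⟩ := (bijective_stalk hR h₁ hη hY).2 (stalkLin (biprod.fst : G₁ ⊞ G₂ ⟶ G₁) η e)
    refine ⟨z, sub_eq_zero.1 (biprod_ext_stalk η (by rw [map_sub, hf, hz, sub_self])
      (stalk_zero_of_notMem h₂ (fun h' => (hY' η hη).1 h' hY) _))⟩
  · obtain ⟨z, hz⟩ := (bijective_stalk hR h₂ hη ((hY' η hη).2 hY)).2 (stalkLin (biprod.snd : G₁ ⊞ G₂ ⟶ G₂) η e)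
    exact ⟨z, sub_eq_zero.1 (biprod_ext_stalk η (stalk_zero_of_notMem h₁ hY _)
      (by rw [map_sub, hs, hz, sub_self]))⟩

end euler

/-- Only trivial idempotent endomorphisms. -/
def Indec (M : X.Modules) : Prop := ∀ e : M ⟶ M, e ≫ e = e → e = 0 ∨ e = 𝟙 M

end Groth.Agent.TFLangLib
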