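import Groth.Agent.TFLangLib.Twist
import Groth.Agent.TFLangLib.Idem
import Groth.Agent.AVLib.AmpleCrit
import Groth.Agent.SubtrRefineLib.Local

/-!
# Semistability and simplicity after a change of the field
-/

set_option autoImplicit false
set_option backward.isDefEq.respectTransparency false
set_option linter.style.haveILetI false

universe u

open CategoryTheory CategoryTheory.Limits AlgebraicGeometry TopologicalSpace Opposite TensorProduct

noncomputable section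

namespace Groth.Agent.TFLangLib

open MeroLib (IsMaxPt)
open PullbackMod TFOneLib DCohLib

section one

variable {X : Scheme.{u}} [IsReduced X] [IsNoetherian X]

/-- A torsion-free quotient with a prescribed set of maximal points, as a subcurve. -/
theorem exists_quot_subcurve {M : X.Modules} (hM : TFOne.IsTF1 X M) (T : Set X) :
    ∃ (Z : Set X) (G : X.Modules) (π : M ⟶ G), IsClosed Z ∧ TFOne.IsQuotOn X M Z G π ∧
      (∀ η, IsMaxPt η → (η ∈ Z ↔ η ∈ T)) ∧ ((∃ η, IsMaxPt η ∧ η ∈ T) → VecSt.IsSubcurve X Z) := by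
  obtain ⟨G, π, hG, hmem⟩ := exists_quot hM.1 hM.2.1 (fun η hη => mem_support_of_maxPt hM.2.2 hη) T
  haveI := hG.2.1.1
  let S : Set (Set X) := {C | C ∈ irreducibleComponents (X : Type u) ∧ C ⊆ CohB1.support G}
  have hScl : IsClosed (Set.sUnion S) := by
    rw [Set.sUnion_eq_biUnion]
    exact Set.Finite.isClosed_biUnion ((NoetherianSpace.finite_irreducibleComponents (α := X)).subset
      fun C hC => hC.1) fun C hC => isClosed_of_mem_irreducibleComponents C hC.1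
  have hcl := isClosed_support_of_isFT hG.2.1.2
  have heq := support_eq_of_maxPt hG.2.1 hG.2.2.1 hScl
    (exists_maxPt_specializes (fun C hC => hC.1) (rfl : Set.sUnion S = Set.sUnion S)) fun η hη => by
      show _ ↔ η ∈ Set.sUnion _
      rw [mem_sUnion_iff ((isMaxPt_iff_genericPoints η).1 hη) (p := fun C => C ⊆ CohB1.support G),
        closure_subset_iff hcl]
  refine ⟨_, G, π, hcl, hG, hmem, fun ⟨η, hη, hηT⟩ => ⟨S, fun C hC => hC.1,
    ⟨closure {η}, (isMaxPt_iff_genericPoints η).1 hη, (closure_subset_iff hcl).2 ((hmem η hη).2 hηT)⟩, heq⟩⟩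

variable {k : Type u} [Field k] [X.Over (Spec (CommRingCat.of k))] [IsProper (X ↘ Spec (CommRingCat.of k))]

/-- The number only depends on the maximal points of the closed set. -/
theorem rBeta_congr (hdim : topologicalKrullDim X ≤ 1) {E : X.Modules} {r : ℕ}
    (hE : FlatMod.IsFinLocFreeOfRank r E) {M G G' : X.Modules} (hM : TFOne.IsRkOne X M) {Z Z' : Set X}
    (hZ : IsClosed Z) (hZ' : IsClosed Z') {π : M ⟶ G} {π' : M ⟶ G'} (hG : TFOne.IsQuotOn X M Z G π)
    (hG' : TFOne.IsQuotOn X M Z' G' π') (h : ∀ η, IsMaxPt η → (η ∈ Z ↔ η ∈ Z')) :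
    TFOne.rBeta X k (X ↘ Spec (CommRingCat.of k)) Z hZ E r G =
      TFOne.rBeta X k (X ↘ Spec (CommRingCat.of k)) Z' hZ' E r G' := by
  classical
  rw [rBeta_eq, rBeta_eq, euler_quot_eq (k := k) hM hG hG' h, degOn_eq k hdim hE hZ, degOn_eq k hdim hE hZ']
  congr 1
  refine finsum_congr fun C => ?_
  have hη : IsMaxPt C.2.1.genericPoint := by
    rw [MeroLib.isMaxPt_iff]
    show closure {C.2.1.genericPoint} ∈ irreducibleComponents (X : Type u)
    rw [C.2.1.closure_genericPoint (isClosed_of_mem_irreducibleComponents _ C.2)]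
    exact C.2
  simp only [Set.indicator_apply, h _ hη]

end one

section bc

variable {κ : Type u} [Field κ] {X : Scheme.{u}} [X.Over (Spec (CommRingCat.of κ))]
  [IsProper (X ↘ Spec (CommRingCat.of κ))]
  {L : Type u} [Field L] {φ : κ →+* L} {Y : Scheme.{u}} [Y.Over (Spec (CommRingCat.of L))] {q : Y ⟶ X}
  (hq : IsPullback q (Y ↘ Spec (CommRingCat.of L)) (X ↘ Spec (CommRingCat.of κ))
    (Spec.map (CommRingCat.ofHom φ)))

include hq in
theorem euler_bc (F : X.Modules) [Coh.IsQCoh F] :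
    Curv2.euler L Y ((Scheme.Modules.pullback q).obj F) = Curv2.euler κ X F := by
  letI := φ.toAlgebra
  haveI := EulerIneqLib.isNoetherian_proper (X := X) κ
  refine finsum_congr fun i => ?_
  obtain ⟨e⟩ := Groth.Agent.S0034.result κ L X Y q hq F i
  rw [← e.finrank_eq, Module.finrank_baseChange]

include hq in
theorem tw_bc {E : X.Modules} {r : ℕ} (hE : FlatMod.IsFinLocFreeOfRank r E) {G : X.Modules} (hG : Coh.IsCoh G) :
    tw L ((Scheme.Modules.pullback q).obj E) ((Scheme.Modules.pullback q).obj G) = tw κ E G := by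
  haveI := EulerIneqLib.isNoetherian_proper (X := X) κ
  haveI := isProper_bc hq
  haveI := (CurveLib.isCoh_tmod hG (DegDevLib.isCoh_of_rank hE)).1
  show Curv2.euler L Y (tmod _ _) = Curv2.euler κ X (tmod G E)
  rw [← euler_bc hq (tmod G E)]
  exact CurveLib.euler_iso (K := L) ((DCohMore.BC.tensorPullIso q E).app G).symm

variable [IsReduced X]
  (hgi : ∀ (C : Set X) (hC : C ∈ irreducibleComponents (X : Type u)), GeometricallyIntegral
    (VecSt.subschι X C (isClosed_of_mem_irreducibleComponents C hC) ≫ (X ↘ Spec (CommRingCat.of κ))))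
  (hdim : topologicalKrullDim X ≤ 1)

include hq hgi hdim in
/-- Semistability, and strictness on the subcurves through a point, persist. -/
theorem semistable_bc {M E : X.Modules} {r : ℕ} (hE : FlatMod.IsFinLocFreeOfRank r E)
    (hss : TFOne.IsSemistable X κ (X ↘ Spec (CommRingCat.of κ)) M E r) :
    TFOne.IsSemistable Y L (Y ↘ Spec (CommRingCat.of L)) ((Scheme.Modules.pullback q).obj M)
      ((Scheme.Modules.pullback q).obj E) r ∧
    ∀ y : Y, (∀ (Z : Set X) (hZ : IsClosed Z), VecSt.IsSubcurve X Z → Z ≠ Set.univ → q y ∈ Z →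
        ∀ (G : X.Modules) (π : M ⟶ G), TFOne.IsQuotOn X M Z G π →
          0 < TFOne.rBeta X κ (X ↘ Spec (CommRingCat.of κ)) Z hZ E r G) →
      TFOne.IsQuasistableAtPt Y L (Y ↘ Spec (CommRingCat.of L)) ((Scheme.Modules.pullback q).obj M)
        ((Scheme.Modules.pullback q).obj E) r y := by
  haveI := EulerIneqLib.isNoetherian_proper (X := X) κ
  haveI := isProper_bc hq
  haveI := isReduced_bc hq hgi
  haveI := EulerIneqLib.isNoetherian_proper (X := Y) L
  have hdY : topologicalKrullDim Y ≤ 1 := (dim_bc hq).le.trans hdim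
  have hMY := isTF1_bc hq hdim hss.1
  have hEY := PBundleLib.isFinLocFreeOfRank_pullback q hE
  have key : ∀ (Z' : Set Y) (hZ' : IsClosed Z'), VecSt.IsSubcurve Y Z' → Z' ≠ Set.univ →
      ∀ (G' : Y.Modules) (π' : (Scheme.Modules.pullback q).obj M ⟶ G'),
        TFOne.IsQuotOn Y ((Scheme.Modules.pullback q).obj M) Z' G' π' →
      ∃ (Z : Set X) (hZ : IsClosed Z), VecSt.IsSubcurve X Z ∧ Z ≠ Set.univ ∧ (∀ y ∈ Z', q y ∈ Z) ∧
        ∃ (G : X.Modules) (π : M ⟶ G), TFOne.IsQuotOn X M Z G π ∧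
          TFOne.rBeta Y L (Y ↘ Spec (CommRingCat.of L)) Z' hZ' ((Scheme.Modules.pullback q).obj E) r G' =
            TFOne.rBeta X κ (X ↘ Spec (CommRingCat.of κ)) Z hZ E r G := by
    intro Z' hZ' hZ's hne G' π' hG'
    obtain ⟨Z, G, π, hZ, hG, hmem, hsub⟩ := exists_quot_subcurve hss.1 (q '' {η | IsMaxPt η ∧ η ∈ Z'})
    have hiff : ∀ η : Y, IsMaxPt η → (q η ∈ Z ↔ η ∈ Z') := fun η hη => by
      rw [hmem _ (isMaxPt_map hq hη)]
      refine ⟨fun ⟨η', ⟨hη', h'⟩, he⟩ => eq_of_map_eq hq hgi hη' hη he ▸ h', fun h => ⟨η, ⟨hη, h⟩, rfl⟩⟩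
    obtain ⟨η₀, hη₀, hη₀Z⟩ := exists_maxPt_mem hZ's
    obtain ⟨η₁, hη₁, hη₁Z⟩ : ∃ η, IsMaxPt η ∧ η ∉ Z' := by
      by_contra hh
      push Not at hh
      refine hne (Set.eq_univ_of_forall fun y => ?_)
      obtain ⟨η, hη, hs⟩ := PicCurveLib.exists_genPt y
      exact hs.mem_closed hZ' (hh η ((isMaxPt_iff_genericPoints η).2 hη))
    obtain ⟨S, hS, -, hZS⟩ := id hZ's
    refine ⟨Z, hZ, hsub ⟨q η₀, isMaxPt_map hq hη₀, η₀, ⟨hη₀, hη₀Z⟩, rfl⟩,
      fun e => hη₁Z ((hiff η₁ hη₁).1 (e ▸ Set.mem_univ _)), fun y hy => ?_, G, π, hG, ?_⟩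
    · obtain ⟨η, hη, hηZ, hs⟩ := exists_maxPt_specializes hS hZS y hy
      exact (hs.map q.continuous).mem_closed hZ ((hiff η hη).2 hηZ)
    · have hGY := isQuotOn_bc hq hdim hG
      rw [rBeta_congr hdY hEY hMY.2.2 hZ' (hZ.preimage q.continuous) hG' hGY fun η hη => (hiff η hη).symm,
        rBeta_eq_tw hdY hEY hMY.2.2 _ hGY, rBeta_eq_tw hdim hE hss.1.2.2 hZ hG, tw_bc hq hE hG.2.1]
  have h1 : TFOne.IsSemistable Y L (Y ↘ Spec (CommRingCat.of L)) ((Scheme.Modules.pullback q).obj M)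
      ((Scheme.Modules.pullback q).obj E) r := ⟨hMY, fun Z' hZ' hZ's hne G' π' hG' => by
    obtain ⟨Z, hZ, hZs, hZne, -, G, π, hG, he⟩ := key Z' hZ' hZ's hne G' π' hG'
    exact he ▸ hss.2 Z hZ hZs hZne G π hG⟩
  refine ⟨h1, fun y hy => ⟨h1, fun Z' hZ' hZ's hne hyZ G' π' hG' => ?_⟩⟩
  obtain ⟨Z, hZ, hZs, hZne, hqy, G, π, hG, he⟩ := key Z' hZ' hZ's hne G' π' hG'
  exact he ▸ hy Z hZ hZs hZne (hqy y hyZ) G π hG

include hq hgi hdim in
/-- A module without non-trivial idempotents becomes simple over an algebraically closed field. -/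
theorem isSimple_bc [IsAlgClosed L] [Nonempty X] {M : X.Modules} (hM : TFOne.IsTF1 X M) (hind : Indec M) :
    TFOne.IsSimple Y L (Y ↘ Spec (CommRingCat.of L)) ((Scheme.Modules.pullback q).obj M) := by
  haveI := EulerIneqLib.isNoetherian_proper (X := X) κ
  haveI := isProper_bc hq
  haveI := isReduced_bc hq hgi
  haveI := EulerIneqLib.isNoetherian_proper (X := Y) L
  haveI : Nonempty Y := (surjective_bc hq).nonempty
  have hMY := isTF1_bc hq hdim hM
  have hgiY : ∀ (C : Set Y) (hC : C ∈ irreducibleComponents (Y : Type u)), GeometricallyIntegral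
      (VecSt.subschι Y C (isClosed_of_mem_irreducibleComponents C hC) ≫ (Y ↘ Spec (CommRingCat.of L))) :=
    fun C hC => by
      haveI : IsIntegral (VecSt.subsch Y C (isClosed_of_mem_irreducibleComponents C hC)) :=
        SubtrRefineLib.isIntegral_component ⟨C, isClosed_of_mem_irreducibleComponents C hC⟩ hC.1
      exact AVLib.geometricallyIntegral_of_isIntegral _
  by_contra hns
  obtain ⟨e, he, ⟨η₁, hη₁, hne₁⟩, ⟨η₂, hη₂, hne₂⟩⟩ := TFOneLib.exists_idem L hgiY hMY hns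
  have he' : (show (Scheme.Modules.pullback q).obj M ⟶ (Scheme.Modules.pullback q).obj M from e) ≫
      (show (Scheme.Modules.pullback q).obj M ⟶ (Scheme.Modules.pullback q).obj M from e) = e := he
  let T : Set Y := {η | IsMaxPt η ∧ stalkLin e η = LinearMap.id}
  obtain ⟨Z₁, G₁, π₁, -, hG₁, hm₁, -⟩ := exists_quot_subcurve hMY T
  obtain ⟨Z₂, G₂, π₂, -, hG₂, hm₂, -⟩ := exists_quot_subcurve hMY Tᶜ
  have hc : ∀ η, IsMaxPt η → (η ∈ Z₂ ↔ η ∉ Z₁) := fun η hη => by rw [hm₂ η hη, hm₁ η hη]; rfl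
  haveI := isIso_lift_of_idem hMY hG₁ hG₂ hc (e := e) (fun η hη h => ((hm₁ η hη).1 h).2)
    fun η hη h => (idem_stalk hMY he' hη).resolve_right fun h' => h ((hm₁ η hη).2 ⟨hη, h'⟩)
  obtain ⟨W₁, H₁, ρ₁, -, hH₁, hw₁, -⟩ := exists_quot_subcurve hM (q '' T)
  obtain ⟨W₂, H₂, ρ₂, -, hH₂, hw₂, -⟩ := exists_quot_subcurve hM (q '' T)ᶜ
  have hcX : ∀ ξ, IsMaxPt ξ → (ξ ∈ W₂ ↔ ξ ∉ W₁) := fun ξ hξ => by rw [hw₂ ξ hξ, hw₁ ξ hξ]; rfl
  have hmap : ∀ η : Y, IsMaxPt η → (q η ∈ W₁ ↔ η ∈ Z₁) := fun η hη => by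
    rw [hw₁ _ (isMaxPt_map hq hη), hm₁ η hη]
    exact ⟨fun ⟨η', h', hqe⟩ => eq_of_map_eq hq hgi h'.1 hη hqe ▸ h', fun h => ⟨η, h, rfl⟩⟩
  haveI := hH₁.2.1.1
  haveI := hH₂.2.1.1
  haveI := hM.1.1
  have e1 : Curv2.euler L Y G₁ = Curv2.euler κ X H₁ := (euler_quot_eq (k := L) hMY.2.2 hG₁
    (isQuotOn_bc hq hdim hH₁) fun η hη => (hmap η hη).symm).trans (euler_bc hq H₁)
  have e2 : Curv2.euler L Y G₂ = Curv2.euler κ X H₂ := (euler_quot_eq (k := L) hMY.2.2 hG₂
    (isQuotOn_bc hq hdim hH₂) fun η hη => by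
      rw [hc η hη, Set.mem_preimage, hcX _ (isMaxPt_map hq hη), hmap η hη]).trans (euler_bc hq H₂)
  haveI := isIso_lift_of_euler (k := κ) hdim hM hH₁ hH₂ hcX (by
    rw [← e1, ← e2, ← euler_biprod hG₁.2.1 hG₂.2.1, ← euler_bc hq M]
    exact CurveLib.euler_iso (K := L) (asIso (biprod.lift π₁ π₂)))
  obtain ⟨f, hf1, hf0⟩ := exists_idem_of_isIso hM hH₁ hH₂ hcX
  have hT : ∀ η, IsMaxPt η → stalkLin e η ≠ 0 → η ∈ Z₁ := fun η hη h =>
    (hm₁ η hη).2 ⟨hη, (idem_stalk hMY he' hη).resolve_left h⟩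
  have h2 : η₂ ∉ Z₁ := fun h => hne₂ (by
    show stalkLin (𝟙 _ - (show (Scheme.Modules.pullback q).obj M ⟶ _ from e)) η₂ = 0
    rw [stalkLin_sub, stalkLin_id, ((hm₁ η₂ hη₂).1 h).2, sub_self])
  rcases hind f (idem_of_stalk hM f fun η hη => (em (η ∈ W₁)).elim (fun h => Or.inr (hf1 η hη h))
    fun h => Or.inl (hf0 η hη h)) with h | h
  · exact id_ne_zero_stalk hM (isMaxPt_map hq hη₁)
      ((hf1 _ (isMaxPt_map hq hη₁) ((hmap η₁ hη₁).2 (hT η₁ hη₁ hne₁))).symm.trans (h ▸ stalkLin_zero _))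
  · exact id_ne_zero_stalk hM (isMaxPt_map hq hη₂)
      (((stalkLin_id (q η₂)).symm.trans (by rw [h])).trans
        (hf0 _ (isMaxPt_map hq hη₂) fun hh => h2 ((hmap η₂ hη₂).1 hh)))

end bc

end Groth.Agent.TFLangLib
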