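import Groth.Agent.TFOneLib.Modif
import Groth.Agent.TFOneLib.Modif2
import Groth.Agent.GenBCLib.PullOn
import Groth.Agent.PullbackMod.Props
import Groth.Agent.QCohLib.Coherent

/-!
# A modification step under a flat morphism which is an isomorphism along the closed subscheme
-/

set_option autoImplicit false
set_option backward.isDefEq.respectTransparency false
set_option linter.style.haveILetI false

universe u

open CategoryTheory CategoryTheory.Limits AlgebraicGeometry TopologicalSpace Opposite TensorProduct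

noncomputable section

namespace Groth.Agent.TFLangLib

open PullbackMod DCohLib TFOneLib

variable {X X' Xs : Scheme.{u}}

/-- The pullback along a composite, on stalks. -/
theorem pullStalk_comp (a : Xs ⟶ X') (t : X' ⟶ X) (M : X.Modules) (w : Xs) (z : M.presheaf.stalk (t (a w))) :
    stalkLin ((Scheme.Modules.pullbackComp a t).hom.app M) w
        (pullStalk a ((Scheme.Modules.pullback t).obj M) w (pullStalk t M (a w) z)) =
      pullStalk (a ≫ t) M w z := by
  obtain ⟨V, hV, m, rfl⟩ := TopCat.Presheaf.exists_germ_eq M.presheaf z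
  have e₁ : t ⁻¹ᵁ V ≤ t ⁻¹ᵁ V := le_rfl
  have e₂ : a ⁻¹ᵁ (t ⁻¹ᵁ V) ≤ a ⁻¹ᵁ (t ⁻¹ᵁ V) := le_rfl
  rw [pullStalk_germ' t M (a w) hV hV e₁ m, pullStalk_germ' a _ w hV hV e₂]
  erw [stalkLin_germ]
  rw [GenBCLib.pullMap_comp a t M e₁ e₂ le_rfl m]
  exact (pullStalk_germ' (a ≫ t) M w hV hV le_rfl m).symm

variable (i' : Xs ⟶ X') [IsClosedImmersion i'] (g : X' ⟶ X) [Flat g] [IsClosedImmersion (i' ≫ g)]

/-- The transported quotient of the restriction. -/
abbrev pullQuot {I : X.Modules} {P : Xs.Modules} (π : (Scheme.Modules.pullback (i' ≫ g)).obj I ⟶ P)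
    {I' : X'.Modules} (ε : I' ≅ (Scheme.Modules.pullback g).obj I) : (Scheme.Modules.pullback i').obj I' ⟶ P :=
  (Scheme.Modules.pullback i').map ε.hom ≫ (Scheme.Modules.pullbackComp i' g).hom.app I ≫ π

/-- The kernel of the transported step is the pullback of the kernel. -/
theorem nonempty_kernel_iso (hrange : ∀ y, g y ∈ Set.range (i' ≫ g) → y ∈ Set.range i')
    (hker : ∀ x, RingHom.ker (i'.stalkMap x).hom ≤
      Ideal.map (g.stalkMap (i' x)).hom (RingHom.ker ((i' ≫ g).stalkMap x).hom))
    {I : X.Modules} [Coh.IsQCoh I] {P : Xs.Modules} (π : (Scheme.Modules.pullback (i' ≫ g)).obj I ⟶ P)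
    {I' : X'.Modules} (ε : I' ≅ (Scheme.Modules.pullback g).obj I) :
    Nonempty (kernel ((Scheme.Modules.pullbackPushforwardAdjunction i').unit.app I' ≫
        (Scheme.Modules.pushforward i').map (pullQuot i' g π ε)) ≅
      (Scheme.Modules.pullback g).obj (kernel ((Scheme.Modules.pullbackPushforwardAdjunction (i' ≫ g)).unit.app I ≫
        (Scheme.Modules.pushforward (i' ≫ g)).map π))) := by
  set s : I ⟶ (Scheme.Modules.pushforward (i' ≫ g)).obj P :=
    (Scheme.Modules.pullbackPushforwardAdjunction (i' ≫ g)).unit.app I ≫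
      (Scheme.Modules.pushforward (i' ≫ g)).map π
  set s' : I' ⟶ (Scheme.Modules.pushforward i').obj P := (Scheme.Modules.pullbackPushforwardAdjunction i').unit.app I' ≫
    (Scheme.Modules.pushforward i').map (pullQuot i' g π ε)
  have hs : ∀ x (z : I.presheaf.stalk ((i' ≫ g) x)), pushStalk (i' ≫ g) P x (stalkLin s ((i' ≫ g) x) z) =
      stalkLin π x (pullStalk (i' ≫ g) I x z) := fun x z => by
    rw [stalkLin_comp, LinearMap.comp_apply]
    exact (pushStalk_natural (i' ≫ g) π x _).trans (congrArg _ (unit_stalk_pushStalk (i' ≫ g) I x z))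
  have hs' : ∀ x z, pushStalk i' P x (stalkLin s' (i' x) (stalkLin ε.inv (i' x) (pullStalk g I (i' x) z))) =
      stalkLin π x (pullStalk (i' ≫ g) I x z) := fun x z => by
    rw [stalkLin_comp, LinearMap.comp_apply]
    refine ((pushStalk_natural i' (pullQuot i' g π ε) x _).trans (congrArg _ (unit_stalk_pushStalk i' I' x _))).trans ?_
    simp only [pullQuot, stalkLin_comp, LinearMap.comp_apply]
    rw [pullStalk_natural, stalkLin_eq_of_comp ε.inv_hom_id, stalkLin_id, LinearMap.id_apply]
    exact congrArg _ (pullStalk_comp i' g I x z)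
  let K := kernel s
  let v : (Scheme.Modules.pullback g).obj K ⟶ I' := (Scheme.Modules.pullback g).map (kernel.ι s) ≫ ε.inv
  haveI := mono_map_pullback g (kernel.ι s)
  have hv : v ≫ s' = 0 := by
    refine (eq_zero_iff_stalk _).2 fun y => LinearMap.ext fun w => ?_
    rw [LinearMap.zero_apply, stalkLin_comp, LinearMap.comp_apply]
    by_cases hy : y ∈ Set.range i'
    · obtain ⟨x, rfl⟩ := hy
      letI := (g.stalkMap (i' x)).hom.toAlgebra
      letI := Module.compHom (((Scheme.Modules.pullback g).obj K).presheaf.stalk (i' x)) (g.stalkMap (i' x)).hom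
      haveI : IsScalarTower (X.presheaf.stalk (g (i' x))) (X'.presheaf.stalk (i' x))
          (((Scheme.Modules.pullback g).obj K).presheaf.stalk (i' x)) := .of_algebraMap_smul fun _ _ => rfl
      refine (isBaseChange_pullStalkL' g K (i' x)).inductionOn w _ ?_ (fun k => ?_) (fun a z hz => ?_) fun a b ha hb => ?_
      · rw [map_zero, map_zero]
      · refine (bijective_pushStalk i' P x).1 ?_
        show pushStalk i' P x (stalkLin s' (i' x) (stalkLin v (i' x) (pullStalk g K (i' x) k))) = pushStalk i' P x 0
        have h0 : stalkLin s ((i' ≫ g) x) (stalkLin (kernel.ι s) ((i' ≫ g) x) k) = 0 :=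
          stalkLin_apply_zero (kernel.condition s) _ k
        rw [show stalkLin v (i' x) (pullStalk g K (i' x) k) =
            stalkLin ε.inv (i' x) (pullStalk g I (i' x) (stalkLin (kernel.ι s) (g (i' x)) k)) by
          rw [stalkLin_comp, LinearMap.comp_apply, pullStalk_natural], hs', map_zero]
        exact (hs x _).symm.trans ((congrArg _ h0).trans (map_zero _))
      · rw [map_smul, map_smul, hz, smul_zero]
      · rw [map_add, map_add, ha, hb, add_zero]
    · exact (subsingleton_stalk_pushforward i' P y hy).elim _ _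
  let l : (Scheme.Modules.pullback g).obj K ⟶ kernel s' := kernel.lift s' v hv
  have hl : l ≫ kernel.ι s' = v := kernel.lift_ι _ _ _
  haveI : Mono (l ≫ kernel.ι s') := by rw [hl]; exact mono_comp _ _
  haveI : Mono l := mono_of_mono l (kernel.ι s')
  haveI : Epi l := (epi_iff_stalk l).2 fun y k => by
    suffices ∃ u, stalkLin ((Scheme.Modules.pullback g).map (kernel.ι s)) y u =
        stalkLin ε.hom y (stalkLin (kernel.ι s') y k) by
      obtain ⟨u, hu⟩ := this
      refine ⟨u, (mono_iff_stalk (kernel.ι s')).1 inferInstance y ?_⟩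
      rw [stalkLin_eq_of_comp hl, stalkLin_comp, LinearMap.comp_apply, hu, stalkLin_eq_of_comp ε.hom_inv_id,
        stalkLin_id, LinearMap.id_apply]
    by_cases hy : y ∈ Set.range i'
    · obtain ⟨x, rfl⟩ := hy
      set w := stalkLin (kernel.ι s') (i' x) k
      have hw0 : stalkLin s' (i' x) w = 0 := stalkLin_apply_zero (kernel.condition s') _ k
      let N := LinearMap.range (stalkLin ((Scheme.Modules.pullback g).map (kernel.ι s)) (i' x))
      suffices H : ∀ u, ∃ a, u - pullStalk g I (i' x) a ∈ N by
        obtain ⟨a, ⟨p, hp⟩⟩ := H (stalkLin ε.hom (i' x) w)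
        have hpa : stalkLin s' (i' x) (stalkLin ε.inv (i' x) (pullStalk g I (i' x) a)) = 0 := by
          have e1 : stalkLin ε.inv (i' x) (pullStalk g I (i' x) a) = w - stalkLin v (i' x) p := by
            rw [stalkLin_comp, LinearMap.comp_apply, hp, map_sub, stalkLin_eq_of_comp ε.hom_inv_id, stalkLin_id,
              LinearMap.id_apply, sub_sub_cancel]
          rw [e1, map_sub, hw0, stalkLin_apply_zero hv, sub_zero]
        have ha0 : stalkLin π x (pullStalk (i' ≫ g) I x a) = 0 := by rw [← hs', hpa, map_zero]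
        obtain ⟨a', rfl⟩ := exists_of_stalkLin_eq_zero s ((i' ≫ g) x)
          ((bijective_pushStalk (i' ≫ g) P x).1 (((hs x a).trans ha0).trans (map_zero _).symm))
        exact ⟨p + pullStalk g K (i' x) a', by
          rw [map_add, hp, pullStalk_natural]; exact sub_add_cancel _ _⟩
      intro u
      letI := (g.stalkMap (i' x)).hom.toAlgebra
      letI := Module.compHom (((Scheme.Modules.pullback g).obj I).presheaf.stalk (i' x)) (g.stalkMap (i' x)).hom
      haveI : IsScalarTower (X.presheaf.stalk (g (i' x))) (X'.presheaf.stalk (i' x))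
          (((Scheme.Modules.pullback g).obj I).presheaf.stalk (i' x)) := .of_algebraMap_smul fun _ _ => rfl
      have main : ∀ (b : X'.presheaf.stalk (i' x)) (m : I.presheaf.stalk (g (i' x))),
          ∃ a, b • pullStalk g I (i' x) m - pullStalk g I (i' x) a ∈ N := fun b m => by
        obtain ⟨a₀, ha₀⟩ : ∃ a₀ : X.presheaf.stalk (g (i' x)), (i' ≫ g).stalkMap x a₀ = i'.stalkMap x b :=
          (i' ≫ g).stalkMap_surjective x (i'.stalkMap x b)
        rw [Scheme.Hom.stalkMap_comp, CommRingCat.comp_apply] at ha₀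
        have hd : b - g.stalkMap (i' x) a₀ ∈
            Ideal.map (g.stalkMap (i' x)).hom (RingHom.ker ((i' ≫ g).stalkMap x).hom) :=
          hker x (RingHom.mem_ker.2 (by rw [map_sub, sub_eq_zero]; exact ha₀.symm))
        refine ⟨a₀ • m, ?_⟩
        rw [pullStalk_smul, ← sub_smul]
        let J : Ideal (X'.presheaf.stalk (i' x)) :=
          Submodule.comap (LinearMap.toSpanSingleton _ _ (pullStalk g I (i' x) m)) N
        refine (?_ : Ideal.map (g.stalkMap (i' x)).hom (RingHom.ker ((i' ≫ g).stalkMap x).hom) ≤ J) hd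
        refine Ideal.map_le_iff_le_comap.2 fun (c : X.presheaf.stalk (g (i' x))) hc => ?_
        show (g.stalkMap (i' x)).hom c • pullStalk g I (i' x) m ∈ N
        have hcm : stalkLin π x (pullStalk (i' ≫ g) I x (c • m)) = 0 := by
          rw [pullStalk_smul, RingHom.mem_ker.1 hc, zero_smul, map_zero]
        obtain ⟨a', ha'⟩ := exists_of_stalkLin_eq_zero s ((i' ≫ g) x)
          ((bijective_pushStalk (i' ≫ g) P x).1 (((hs x (c • m)).trans hcm).trans (map_zero _).symm))
        refine ⟨pullStalk g K (i' x) a', ?_⟩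
        rw [pullStalk_natural]
        exact (congrArg (pullStalk g I (i' x)) ha').trans (pullStalk_smul g I (i' x) c m)
      refine (isBaseChange_pullStalkL' g I (i' x)).inductionOn u _ ?_ (fun m => ?_) (fun b z hz => ?_) fun a b ha hb => ?_
      · exact ⟨0, by rw [map_zero, sub_zero]; exact zero_mem _⟩
      · exact ⟨m, by show pullStalk g I (i' x) m - _ ∈ N; rw [sub_self]; exact zero_mem _⟩
      · obtain ⟨a, ha⟩ := hz
        obtain ⟨a', ha'⟩ := main b a
        refine ⟨a', ?_⟩
        have := add_mem (N.smul_mem b ha) ha'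
        rwa [smul_sub, sub_add_sub_cancel] at this
      · obtain ⟨a₁, h₁⟩ := ha
        obtain ⟨a₂, h₂⟩ := hb
        refine ⟨a₁ + a₂, ?_⟩
        rw [map_add, add_sub_add_comm]
        exact add_mem h₁ h₂
    · letI := (g.stalkMap y).hom.toAlgebra
      refine (surjective_stalk_pullback_iff g (kernel.ι s) y).2 (LinearMap.lTensor_surjective _ fun m => ?_) _
      exact exists_of_stalkLin_eq_zero s (g y)
        ((subsingleton_stalk_pushforward (i' ≫ g) P (g y) fun h => hy (hrange y h)).elim _ _)
  haveI : IsIso l := isIso_of_mono_of_epi l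
  exact ⟨(asIso l).symm⟩

end Groth.Agent.TFLangLib
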