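import Groth.Agent.TFLangLib.Bc
import Groth.Agent.TFOneLib.Modif
import Groth.Agent.DCohMore.BCTheta
import Groth.Agent.PBundleLib.Split
import Groth.Agent.S0034

/-!
# The numbers `r χ(G) + deg(E|Z)` as Euler characteristics of twists
-/

set_option autoImplicit false
set_option backward.isDefEq.respectTransparency false
set_option linter.style.haveILetI false

universe u

open CategoryTheory CategoryTheory.Limits AlgebraicGeometry TopologicalSpace Opposite TensorProduct

noncomputable section

namespace Groth.Agent.TFLangLib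

open MeroLib (IsMaxPt)
open PullbackMod TFOneLib DCohLib CurveLib

variable {X : Scheme.{u}} {k : Type u} [Field k] [X.Over (Spec (CommRingCat.of k))]
  [IsProper (X ↘ Spec (CommRingCat.of k))]

variable (k) in
/-- `χ(G ⊗ E)`. -/
abbrev tw (E G : X.Modules) : ℤ := Curv2.euler k X (tmod G E)

theorem tw_iso (E : X.Modules) {G G' : X.Modules} (e : G ≅ G') : tw k E G = tw k E G' :=
  CurveLib.euler_iso (K := k) ((CurveLib.tensR E).mapIso e)

omit [IsProper (X ↘ Spec (CommRingCat.of k))] in
theorem tw_eq (E G : X.Modules) (r : ℕ) : tw k E G = DegDevLib.twEuler k r E G + r * Curv2.euler k X G := by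
  rw [DegDevLib.twEuler]; ring

theorem tw_isZero {E G : X.Modules} (hG : IsZero G) : tw k E G = 0 := by
  rw [tw_eq E G 0, DegDevLib.twEuler_isZero k hG]
  simp

theorem tw_add {E : X.Modules} {r : ℕ} (hE : FlatMod.IsFinLocFreeOfRank r E) {A B C : X.Modules} {f : A ⟶ B}
    {g : B ⟶ C} {w : f ≫ g = 0} (hS : (ShortComplex.mk f g w).ShortExact) (hA : Coh.IsCoh A) (hB : Coh.IsCoh B)
    (hC : Coh.IsCoh C) : tw k E B = tw k E A + tw k E C := by
  have h1 := DegDevLib.twEuler_shortExact k hE _ hS hA hB hC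
  have h2 := CurveLib.euler_shortExact (K := k) hS hA hB hC
  dsimp at h1 h2
  rw [tw_eq E A r, tw_eq E B r, tw_eq E C r, h1, h2]
  ring

/-- Finitely supported modules contribute non-negatively, and positively when non-zero. -/
theorem tw_small {E : X.Modules} {r : ℕ} (hE : FlatMod.IsFinLocFreeOfRank r E) {K : X.Modules} (hK : Coh.IsCoh K)
    (hd : topologicalKrullDim (CohB1.support K) ≤ 0) :
    0 ≤ tw k E K ∧ (tw k E K ≤ 0 → 0 < r → ∀ x, x ∉ CohB1.support K) := by
  haveI := EulerIneqLib.isNoetherian_proper (X := X) k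
  have hcl := isClosed_support_of_isFT hK.2
  rw [tw_eq E K r, DegDevLib.twEuler_small k hE hK hd, zero_add, CurveLib.euler_of_dim_le_zero hcl subset_rfl hd]
  refine ⟨by positivity, fun h hr x => ?_⟩
  haveI := EulerIneqLib.finite_HH (k := k) hK 0
  have h0 : (Module.finrank k (Coh.HH X K 0) : ℤ) = 0 := by
    nlinarith [Int.natCast_nonneg (Module.finrank k (Coh.HH X K 0))]
  haveI : Subsingleton (Coh.HH X K 0) := Module.finrank_zero_iff.1 (by exact_mod_cast h0)
  exact (subsingleton_stalk_iff K x).1 (CurveLib.subsingleton_stalk_of_H0 hcl hd K subset_rfl x)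

variable [IsReduced X]

/-- `r χ(G) + deg(E|Z) = χ(G ⊗ E)` for the torsion-free quotient `G` on `Z`. -/
theorem rBeta_eq_tw (hdim : topologicalKrullDim X ≤ 1) {E : X.Modules} {r : ℕ}
    (hE : FlatMod.IsFinLocFreeOfRank r E) {M G : X.Modules} (hM : TFOne.IsRkOne X M) {Z : Set X} (hZ : IsClosed Z)
    {π : M ⟶ G} (hG : TFOne.IsQuotOn X M Z G π) :
    TFOne.rBeta X k (X ↘ Spec (CommRingCat.of k)) Z hZ E r G = tw k E G := by
  classical
  haveI := EulerIneqLib.isNoetherian_proper (X := X) k
  rw [rBeta_eq, tw_eq E G r, add_comm, degOn_eq k hdim hE hZ, DegDevLib.twEuler_components k hdim hE hG.2.1]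
  congr 1
  refine finsum_congr fun C => ?_
  have hη : IsMaxPt C.2.1.genericPoint := by
    rw [MeroLib.isMaxPt_iff]
    show closure {C.2.1.genericPoint} ∈ irreducibleComponents (X : Type u)
    rw [C.2.1.closure_genericPoint (isClosed_of_mem_irreducibleComponents _ C.2)]
    exact C.2
  split_ifs
  · refine congrArg (· * _) ?_
    by_cases h : C.2.1.genericPoint ∈ Z
    · obtain ⟨ψ⟩ := hM _ ((isMaxPt_iff_genericPoints _).1 hη)
      letI := (MeroLib.isField_stalk hη).toField
      rw [Set.indicator_of_mem h, ← (LinearEquiv.ofBijective _ (bijective_stalk hM hG hη h)).length_eq,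
        ψ.length_eq, Module.length_eq_one]
      simp
    · haveI : Subsingleton (G.presheaf.stalk C.2.1.genericPoint) :=
        (subsingleton_stalk_iff G _).2 (by rw [hG.2.2.2]; exact h)
      rw [Set.indicator_of_notMem h, Module.length_eq_zero]
      simp
  · rw [mul_zero]

/-- A quotient of a torsion-free rank one module dominates, numerically, its torsion-free part. -/
theorem exists_tw_le (hdim : topologicalKrullDim X ≤ 1) {E : X.Modules} {r : ℕ}
    (hE : FlatMod.IsFinLocFreeOfRank r E) {M F : X.Modules} (hM : TFOne.IsTF1 X M) (hF : Coh.IsCoh F)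
    (p : M ⟶ F) [Epi p] :
    ∃ (T : Set X) (G : X.Modules) (π : M ⟶ G), IsClosed T ∧ TFOne.IsQuotOn X M T G π ∧
      tw k E G ≤ tw k E F ∧ (0 < r → tw k E F ≤ tw k E G → CohB1.support F ⊆ T) ∧ T ⊆ CohB1.support F ∧
      (∀ y ∈ T, ∃ η, IsMaxPt η ∧ η ∈ T ∧ η ⤳ y) := by
  haveI := EulerIneqLib.isNoetherian_proper (X := X) k
  haveI := hF.1
  obtain ⟨G, π, hG, hmem⟩ := exists_quot hM.1 hM.2.1 (fun η hη => mem_support_of_maxPt hM.2.2 hη) (CohB1.support F)
  refine ⟨CohB1.support G, G, π, isClosed_support_of_isFT hG.2.1.2, hG, ?_⟩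
  haveI := hG.1
  haveI := hG.2.1.1
  have hpbij : ∀ η, IsMaxPt η → η ∈ CohB1.support F → Function.Injective (stalkLin p η) := by
    intro η hη hF'
    refine (injective_iff_map_eq_zero _).2 fun z hz => ?_
    obtain ⟨e, he, hspan⟩ := exists_basis hM.2.2 hη
    letI := (MeroLib.isField_stalk hη).toField
    obtain ⟨a, rfl⟩ := hspan z
    by_contra hne
    obtain ⟨w, hw⟩ := (mem_support_iff η).1 hF'
    obtain ⟨b, rfl⟩ := (epi_iff_stalk p).1 inferInstance η w
    obtain ⟨c, rfl⟩ := hspan b
    rw [map_smul] at hz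
    refine hw ?_
    rw [map_smul, (smul_eq_zero.1 hz).resolve_left fun h0 => hne (by rw [h0, zero_smul]), smul_zero]
  have h0 : kernel.ι p ≫ π = 0 := hom_eq_zero hG.2.2.1 _ fun η hη => LinearMap.ext fun z => by
    rw [LinearMap.zero_apply, stalkLin_comp, LinearMap.comp_apply]
    by_cases h : η ∈ CohB1.support F
    · rw [show stalkLin (kernel.ι p) η z = 0 from hpbij η hη h
        ((stalkLin_apply_zero (kernel.condition p) η z).trans (map_zero _).symm), map_zero]
    · exact stalk_zero_of_notMem hG (fun h' => h ((hmem η hη).1 h')) _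
  let g : F ⟶ G := Abelian.epiDesc p π h0
  have hg : p ≫ g = π := Abelian.comp_epiDesc _ _ _
  haveI : Epi (p ≫ g) := by rw [hg]; infer_instance
  haveI : Epi g := epi_of_epi p g
  have hK : Coh.IsCoh (kernel g) := (QCohLib.isCoh_kernel_cokernel g hF hG.2.1).1
  have hS : (ShortComplex.mk (kernel.ι g) g (kernel.condition g)).ShortExact :=
    { exact := ShortComplex.exact_of_f_is_kernel _ (kernelIsKernel g) }
  have hd : topologicalKrullDim (CohB1.support (kernel g)) ≤ 0 := by
    refine dim_le_zero_of_disjoint hdim (isClosed_support_of_isFT hK.2) fun η hη => ?_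
    rw [← subsingleton_stalk_iff]
    refine subsingleton_of_forall_eq 0 fun z => (mono_iff_stalk (kernel.ι g)).1 inferInstance η ?_
    obtain ⟨b, hb⟩ := (epi_iff_stalk p).1 inferInstance η (stalkLin (kernel.ι g) η z)
    have hη' := (isMaxPt_iff_genericPoints η).2 hη
    by_cases h : η ∈ CohB1.support F
    · have hb0 : stalkLin π η b = 0 := by
        rw [← stalkLin_eq_of_comp hg, hb, stalkLin_apply_zero (kernel.condition g)]
      rw [map_zero, ← hb, (bijective_stalk hM.2.2 hG hη' ((hmem η hη').2 h)).1 (hb0.trans (map_zero _).symm),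
        map_zero]
    · haveI := (subsingleton_stalk_iff F η).2 h
      exact Subsingleton.elim _ _
  have hadd := tw_add (k := k) hE hS hK hF hG.2.1
  obtain ⟨hpos, hzero⟩ := tw_small (k := k) hE hK hd
  refine ⟨by omega, fun hr hle y hy => ?_, fun y hy hF0 => hy ?_, fun y hy => ?_⟩
  · by_contra hyG
    obtain ⟨w, hw⟩ := (mem_support_iff y).1 hy
    refine hw ?_
    haveI := (subsingleton_stalk_iff G y).2 hyG
    obtain ⟨v, hv⟩ := exists_of_stalkLin_eq_zero g y (Subsingleton.elim (stalkLin g y w) 0)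
    haveI := (subsingleton_stalk_iff (kernel g) y).2 (hzero (by omega) hr y)
    rw [← hv, Subsingleton.elim v 0, map_zero]
  · refine subsingleton_of_forall_eq 0 fun z => ?_
    obtain ⟨w, rfl⟩ := (epi_iff_stalk g).1 inferInstance y z
    rw [@Subsingleton.elim _ hF0 w 0, map_zero]
  · let S : Set (Set X) := {C | C ∈ irreducibleComponents (X : Type u) ∧ C ⊆ CohB1.support G}
    have hScl : IsClosed (Set.sUnion S) := by
      rw [Set.sUnion_eq_biUnion]
      exact Set.Finite.isClosed_biUnion ((NoetherianSpace.finite_irreducibleComponents (α := X)).subset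
        fun C hC => hC.1) fun C hC => isClosed_of_mem_irreducibleComponents C hC.1
    have hd' := exists_maxPt_specializes (fun C hC => hC.1) (rfl : Set.sUnion S = Set.sUnion S)
    have heq := support_eq_of_maxPt hG.2.1 hG.2.2.1 hScl hd' fun η hη => by
      show _ ↔ η ∈ Set.sUnion _
      rw [mem_sUnion_iff ((isMaxPt_iff_genericPoints η).1 hη) (p := fun C => C ⊆ CohB1.support G),
        closure_subset_iff (isClosed_support_of_isFT hG.2.1.2)]
    obtain ⟨η, hη, hηS, hs⟩ := hd' y (heq.subset hy)
    exact ⟨η, hη, heq.superset hηS, hs⟩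

end Groth.Agent.TFLangLib
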