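import Groth.Agent.TFLangLib.GenFibre
import Groth.Agent.TFLangLib.Twist
import Groth.Agent.CanonFacLib.FibreDeg
import Groth.Agent.S1026
import Groth.Agent.S4500
import Mathlib.FieldTheory.IsAlgClosed.AlgebraicClosure

/-!
# A flat quotient and the geometric generic fibre
-/

set_option autoImplicit false
set_option backward.isDefEq.respectTransparency false
set_option linter.style.haveILetI false

universe u

open CategoryTheory CategoryTheory.Limits AlgebraicGeometry TopologicalSpace Opposite TensorProduct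

noncomputable section

namespace Groth.Agent.TFLangLib

open MeroLib (IsMaxPt)
open PullbackMod TFOneLib DCohLib CurveLib

variable {R : Type u} [CommRing R] [IsDomain R] [IsDiscreteValuationRing R] {X : Scheme.{u}}
  {f : X ⟶ Spec (CommRingCat.of R)} [IsProper f] {κ : Type u} [Field κ] {Xs : Scheme.{u}}
  [Xs.Over (Spec (CommRingCat.of κ))] {i : Xs ⟶ X} {ψ : R →+* κ}

section tw

variable (hsq : IsPullback i (Xs ↘ Spec (CommRingCat.of κ)) f (Spec.map (CommRingCat.ofHom ψ)))

include hsq in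
/-- The twisted Euler characteristics of a flat module agree on all fibres. -/
theorem tw_fibre {Ω : Type u} [Field Ω] {φ : R →+* Ω} {Xo : Scheme.{u}} [Xo.Over (Spec (CommRingCat.of Ω))]
    {o : Xo ⟶ X} (ho : IsPullback o (Xo ↘ Spec (CommRingCat.of Ω)) f (Spec.map (CommRingCat.ofHom φ)))
    {E : X.Modules} {r : ℕ} (hE : FlatMod.IsFinLocFreeOfRank r E) {N : X.Modules} (hN : Coh.IsCoh N)
    (hfl : FlatMod.IsFlatOver f N) :
    tw Ω ((Scheme.Modules.pullback o).obj E) ((Scheme.Modules.pullback o).obj N) =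
      tw κ ((Scheme.Modules.pullback i).obj E) ((Scheme.Modules.pullback i).obj N) := by
  haveI : LocallyOfFinitePresentation f := inferInstance
  haveI : IsLocallyNoetherian X := LocallyOfFiniteType.isLocallyNoetherian f
  haveI hp1 : IsProper (Xo ↘ Spec (CommRingCat.of Ω)) := MorphismProperty.of_isPullback (P := @IsProper) ho inferInstance
  haveI hp2 : IsProper (Xs ↘ Spec (CommRingCat.of κ)) := MorphismProperty.of_isPullback (P := @IsProper) hsq inferInstance
  have hflf : FlatMod.IsFinLocFree E := fun x => (hE x).imp fun U h => ⟨r, h⟩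
  have hfree := fun x => free_finite_stalk_of_flf hflf x
  haveI := hN.1
  have hT : Coh.IsCoh (tmod N E) := CurveLib.isCoh_tmod hN (DegDevLib.isCoh_of_rank hE)
  haveI := hT.1
  have hflT : FlatMod.IsFlatOver f (tmod N E) := fun x => by
    haveI := (hfree x).1
    exact Groth.Agent.S4500.isFlatOverAt_tmod f x (hfl x)
  haveI : PreconnectedSpace (Spec (CommRingCat.of R)) := inferInstance
  have h := (Groth.Agent.S1026.result f (tmod N E) (QCohLib.isFP_of_isCoh _ hT) hflT).apply_eq_of_preconnectedSpace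
    (Spec.map (CommRingCat.ofHom φ) default) (Spec.map (CommRingCat.ofHom ψ) default)
  simp only at h
  rw [CanonFac.eulerChar_point_mod f ho default (tmod N E), CanonFac.eulerChar_point_mod f hsq default (tmod N E)] at h
  show Curv2.euler Ω Xo (tmod _ _) = Curv2.euler κ Xs (tmod _ _)
  exact ((CurveLib.euler_iso (K := Ω) ((DCohMore.BC.tensorPullIso o E).app N).symm).trans h).trans
    (CurveLib.euler_iso (K := κ) (X := Xs) ((DCohMore.BC.tensorPullIso i E).app N))

end tw

/-- The support of a torsion-free rank one module is everything. -/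
theorem mem_support_of_tf1 {Z : Scheme.{u}} [IsReduced Z] [IsLocallyNoetherian Z] {M : Z.Modules} (hM : TFOne.IsTF1 Z M)
    (z : Z) : ¬ Subsingleton (M.presheaf.stalk z) := by
  haveI := hM.1.1
  obtain ⟨η, hη, hs⟩ := PicCurveLib.exists_genPt z
  exact hs.mem_closed (isClosed_support_of_isFT hM.1.2)
    (mem_support_of_maxPt hM.2.2 ((isMaxPt_iff_genericPoints η).2 hη))

theorem isZero_of_support {Z : Scheme.{u}} {G : Z.Modules} (h : ∀ z, z ∉ CohB1.support G) : IsZero G :=
  (IsZero.iff_id_eq_zero G).2 ((eq_zero_iff_stalk _).2 fun z => LinearMap.ext fun w => by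
    haveI := (subsingleton_stalk_iff G z).2 (h z)
    exact Subsingleton.elim _ _)

include f in
/-- A geometric point over the generic point. -/
theorem exists_generic (hψ : Function.Surjective ψ)
    (hsq : IsPullback i (Xs ↘ Spec (CommRingCat.of κ)) f (Spec.map (CommRingCat.ofHom ψ))) :
    ∃ (Ω : Type u) (_ : Field Ω) (_ : IsAlgClosed Ω) (φ : R →+* Ω) (Xo : Scheme.{u}) (o : Xo ⟶ X)
      (q : Xo ⟶ Spec (CommRingCat.of Ω)), Function.Injective φ ∧ IsPullback o q f (Spec.map (CommRingCat.ofHom φ)) ∧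
        (Flat f → ∀ x : Xs, ∃ z : Xo, o z ⤳ i x) := by
  let Ω := AlgebraicClosure (FractionRing R)
  let φ : R →+* Ω := (algebraMap (FractionRing R) Ω).comp (algebraMap R (FractionRing R))
  have hφ : Function.Injective φ := fun a b h =>
    IsFractionRing.injective R (FractionRing R) ((algebraMap (FractionRing R) Ω).injective h)
  refine ⟨Ω, inferInstance, inferInstance, φ, _, _, _, hφ, IsPullback.of_hasPullback f (Spec.map (CommRingCat.ofHom φ)),
    fun hfl x => ?_⟩
  let s := Spec.map (CommRingCat.ofHom φ) (IsLocalRing.closedPoint Ω)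
  obtain ⟨y, hy, he⟩ := Flat.generalizingMap f (show s ⤳ f (i x) by
    rw [(mem_range_iff hψ hsq).1 ⟨x, rfl⟩]; exact IsLocalRing.specializes_closedPoint s)
  obtain ⟨z, hz, -⟩ := Scheme.Pullback.exists_preimage_pullback (f := f) (g := Spec.map (CommRingCat.ofHom φ))
    y (IsLocalRing.closedPoint Ω) he
  exact ⟨z, hz ▸ hy⟩

variable [Flat f] [IsReduced Xs] (hψ : Function.Surjective ψ)
  (hsq : IsPullback i (Xs ↘ Spec (CommRingCat.of κ)) f (Spec.map (CommRingCat.ofHom ψ)))
  (hdim : topologicalKrullDim Xs ≤ 1)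
  (hgi : ∀ (C : Set Xs) (hC : C ∈ irreducibleComponents (Xs : Type u)), GeometricallyIntegral
    (VecSt.subschι Xs C (isClosed_of_mem_irreducibleComponents C hC) ≫ (Xs ↘ Spec (CommRingCat.of κ))))
  {M F : X.Modules} (hM : Coh.IsCoh M) (hMfl : FlatMod.IsFlatOver f M) (hF : Coh.IsCoh F)
  (hFfl : FlatMod.IsFlatOver f F) (p : M ⟶ F) [Epi p] {E : X.Modules} {r : ℕ}
  (hE : FlatMod.IsFinLocFreeOfRank r E)

include hψ hsq hdim hgi hM hMfl hF hFfl hE in
/-- The numerical consequence of semistability of the generic fibre for a flat quotient. -/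
theorem exists_generic_bound (hM0 : tw κ ((Scheme.Modules.pullback i).obj E) ((Scheme.Modules.pullback i).obj M) = 0)
    (hss : ∀ (Ω : Type u) [Field Ω] [IsAlgClosed Ω] (φ : R →+* Ω) (Xo : Scheme.{u}) (o : Xo ⟶ X)
      (q : Xo ⟶ Spec (CommRingCat.of Ω)), Function.Injective φ → IsPullback o q f (Spec.map (CommRingCat.ofHom φ)) →
      TFOne.IsSemistable Xo Ω q ((Scheme.Modules.pullback o).obj M) ((Scheme.Modules.pullback o).obj E) r) :
    0 ≤ tw κ ((Scheme.Modules.pullback i).obj E) ((Scheme.Modules.pullback i).obj F) ∧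
    (0 < r → tw κ ((Scheme.Modules.pullback i).obj E) ((Scheme.Modules.pullback i).obj F) ≤ 0 →
      ∀ x₁ x₂ : Xs, Function.Bijective (stalkLin ((Scheme.Modules.pullback i).map p) x₁) →
        Subsingleton (((Scheme.Modules.pullback i).obj F).presheaf.stalk x₂) →
      ∀ (σ : Spec (CommRingCat.of R) ⟶ X), σ ≫ f = 𝟙 _ → σ (IsLocalRing.closedPoint R) = i x₁ →
        ¬ ∀ (Ω : Type u) [Field Ω] [IsAlgClosed Ω] (φ : R →+* Ω) (Xo : Scheme.{u}) (o : Xo ⟶ X)
          (q : Xo ⟶ Spec (CommRingCat.of Ω)), Function.Injective φ →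
          IsPullback o q f (Spec.map (CommRingCat.ofHom φ)) → ∀ y : Spec (CommRingCat.of Ω) ⟶ Xo,
          y ≫ o = Spec.map (CommRingCat.ofHom φ) ≫ σ → y ≫ q = 𝟙 _ →
          TFOne.IsQuasistableAtPt Xo Ω q ((Scheme.Modules.pullback o).obj M) ((Scheme.Modules.pullback o).obj E) r
            (y (IsLocalRing.closedPoint Ω))) := by
  haveI : IsClosedImmersion (Spec.map (CommRingCat.ofHom ψ)) := IsClosedImmersion.spec_of_surjective _ hψ
  haveI : IsClosedImmersion i := MorphismProperty.of_isPullback hsq.flip inferInstance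
  haveI : IsLocallyNoetherian X := LocallyOfFiniteType.isLocallyNoetherian f
  obtain ⟨Ω, _, _, φ, Xo, o, q, hφ, ho, hover⟩ := exists_generic (f := f) hψ hsq
  obtain ⟨hred, hd, hp⟩ := fibre_facts hψ hsq hdim hgi ho
  letI : Xo.Over (Spec (CommRingCat.of Ω)) := ⟨q⟩
  haveI : IsProper (Xo ↘ Spec (CommRingCat.of Ω)) := hp
  haveI := EulerIneqLib.isNoetherian_proper (X := Xo) Ω
  have hS := hss Ω φ Xo o q hφ ho
  haveI := hF.1
  haveI := hM.1
  have hFo : Coh.IsCoh ((Scheme.Modules.pullback o).obj F) := PullbackMod.isCoh_pullback o F hF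
  have hEo := PBundleLib.isFinLocFreeOfRank_pullback o hE
  have hFt := tw_fibre (Xo := Xo) hsq (φ := φ) ho hE hF hFfl
  have hMt : tw Ω ((Scheme.Modules.pullback o).obj E) ((Scheme.Modules.pullback o).obj M) = 0 :=
    (tw_fibre (Xo := Xo) hsq (φ := φ) ho hE hM hMfl).trans hM0
  haveI : Epi ((Scheme.Modules.pullback o).map p) := inferInstance
  obtain ⟨T, G, π, hTc, hG, hle, heq, hTF, hgen⟩ :=
    exists_tw_le (k := Ω) hd hEo hS.1 hFo ((Scheme.Modules.pullback o).map p)
  haveI := hG.1
  haveI := hG.2.1.1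
  have hTs : T.Nonempty → VecSt.IsSubcurve Xo T := fun ⟨y, hy⟩ => by
    refine ⟨{C | C ∈ irreducibleComponents (Xo : Type u) ∧ C ⊆ T}, fun C hC => hC.1, ?_, ?_⟩
    · obtain ⟨η, hη, hηT, -⟩ := hgen y hy
      exact ⟨closure {η}, (isMaxPt_iff_genericPoints η).1 hη, hTc.closure_subset_iff.2 (by simpa)⟩
    · refine (Set.sUnion_subset fun C hC => hC.2).antisymm' fun y hy => ?_
      obtain ⟨η, hη, hηT, hs⟩ := hgen y hy
      exact ⟨closure {η}, ⟨(isMaxPt_iff_genericPoints η).1 hη, hTc.closure_subset_iff.2 (by simpa)⟩,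
        specializes_iff_mem_closure.1 hs⟩
  have hcases : T = ∅ ∧ tw Ω ((Scheme.Modules.pullback o).obj E) G = 0 ∨
      T = Set.univ ∧ tw Ω ((Scheme.Modules.pullback o).obj E) G = 0 ∨
      (VecSt.IsSubcurve Xo T ∧ T ≠ Set.univ ∧
        TFOne.rBeta Xo Ω q T hTc ((Scheme.Modules.pullback o).obj E) r G =
          tw Ω ((Scheme.Modules.pullback o).obj E) G) := by
    rcases T.eq_empty_or_nonempty with h | h
    · exact Or.inl ⟨h, tw_isZero (isZero_of_support fun z hz => by rw [hG.2.2.2, h] at hz; exact hz)⟩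
    by_cases hu : T = Set.univ
    · refine Or.inr (Or.inl ⟨hu, ?_⟩)
      haveI : Mono π := mono_of_maxPt hS.1.2.1 π fun η hη =>
        (bijective_stalk hS.1.2.2 hG hη (hu ▸ Set.mem_univ η)).1
      haveI : IsIso π := isIso_of_mono_of_epi π
      rw [← tw_iso (k := Ω) _ (asIso π), hMt]
    · exact Or.inr (Or.inr ⟨hTs h, hu, rBeta_eq_tw (k := Ω) hd hEo hS.1.2.2 hTc hG⟩)
  have hpos : 0 ≤ tw Ω ((Scheme.Modules.pullback o).obj E) G := by
    rcases hcases with ⟨-, h⟩ | ⟨-, h⟩ | ⟨h1, h2, h3⟩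
    · exact h.ge
    · exact h.ge
    · exact h3 ▸ hS.2 T hTc h1 h2 G π hG
  refine ⟨by omega, fun hr hF0 x₁ x₂ hb hz σ hσ hσ₁ hq => ?_⟩
  let t := Spec.map (CommRingCat.ofHom φ)
  let y : Spec (CommRingCat.of Ω) ⟶ Xo := ho.lift (t ≫ σ) (𝟙 _) (by
    rw [Category.assoc, hσ, Category.comp_id, Category.id_comp])
  have hy1 : y ≫ o = t ≫ σ := ho.lift_fst _ _ _
  let z := y (IsLocalRing.closedPoint Ω)
  have hoz : o z ⤳ i x₁ := by
    rw [← hσ₁, show o z = σ (t (IsLocalRing.closedPoint Ω)) by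
      rw [← Scheme.Hom.comp_apply, ← Scheme.Hom.comp_apply, hy1]]
    exact (IsLocalRing.specializes_closedPoint _).map σ.continuous
  have hbo := bijective_stalk_pullback o p z (bijective_stalk_of_special hψ hsq hM hF hFfl p hb hoz)
  have hzF : z ∈ CohB1.support ((Scheme.Modules.pullback o).obj F) := fun h =>
    mem_support_of_tf1 hS.1 z (@Function.Injective.subsingleton _ _ _ hbo.1 h)
  obtain ⟨z₂, hz₂⟩ := hover inferInstance x₂
  have hz₂F : z₂ ∉ CohB1.support ((Scheme.Modules.pullback o).obj F) := fun h =>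
    h (subsingleton_stalk_pullback o F z₂ (subsingleton_stalk_of_special hψ hsq hF hz hz₂))
  have hzT : z ∈ T := heq hr (by omega) hzF
  rcases hcases with ⟨h, -⟩ | ⟨h, -⟩ | ⟨h1, h2, h3⟩
  · rw [h] at hzT; exact hzT
  · exact hz₂F (hTF (h ▸ Set.mem_univ z₂))
  · have := (hq Ω φ Xo o q hφ ho y hy1 (ho.lift_snd _ _ _)).2 T hTc h1 h2 hzT G π hG
    omega

include hψ hsq hdim hgi hM hF hFfl in
/-- A decomposing pair of flat quotients makes the generic fibre non-simple. -/
theorem false_of_simple {F' : X.Modules} (hF' : Coh.IsCoh F') (hF'fl : FlatMod.IsFlatOver f F') (p' : M ⟶ F')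
    [IsIso (biprod.lift ((Scheme.Modules.pullback i).map p) ((Scheme.Modules.pullback i).map p'))]
    {x₁ x₂ : Xs} (h₁ : Subsingleton (((Scheme.Modules.pullback i).obj F').presheaf.stalk x₁))
    (h₂ : Subsingleton (((Scheme.Modules.pullback i).obj F).presheaf.stalk x₂))
    (hs : ∀ (Ω : Type u) [Field Ω] [IsAlgClosed Ω] (φ : R →+* Ω) (Xo : Scheme.{u}) (o : Xo ⟶ X)
      (q : Xo ⟶ Spec (CommRingCat.of Ω)), Function.Injective φ → IsPullback o q f (Spec.map (CommRingCat.ofHom φ)) →
      TFOne.IsTF1 Xo ((Scheme.Modules.pullback o).obj M) ∧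
        TFOne.IsSimple Xo Ω q ((Scheme.Modules.pullback o).obj M)) : False := by
  haveI : IsClosedImmersion (Spec.map (CommRingCat.ofHom ψ)) := IsClosedImmersion.spec_of_surjective _ hψ
  haveI : IsClosedImmersion i := MorphismProperty.of_isPullback hsq.flip inferInstance
  haveI : IsLocallyNoetherian X := LocallyOfFiniteType.isLocallyNoetherian f
  haveI := hF.1
  haveI := hF'.1
  haveI := hM.1
  obtain ⟨t, ht⟩ := IsDiscreteValuationRing.exists_irreducible R
  have hB : Coh.IsCoh (F ⊞ F') := FormalSys.isCoh_biprod hF hF'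
  have hBfl : FlatMod.IsFlatOver f (F ⊞ F') := isFlatOver_of_regular ht _ fun y a b hab => by
    have hab' : gt f y t • a = gt f y t • b := hab
    refine sub_eq_zero.1 (biprod_ext_stalk y ?_ ?_)
    · rw [map_sub, sub_eq_zero]
      exact isSMulRegular_gt ht.ne_zero hFfl y (by
        show gt f y t • _ = gt f y t • _
        rw [← map_smul, ← map_smul, hab'])
    · rw [map_sub, sub_eq_zero]
      exact isSMulRegular_gt ht.ne_zero hF'fl y (by
        show gt f y t • _ = gt f y t • _
        rw [← map_smul, ← map_smul, hab'])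
  haveI : PreservesBinaryBiproducts (Scheme.Modules.pullback i) :=
    preservesBinaryBiproducts_of_preservesBiproducts _
  let L := biprod.lift p p'
  haveI : IsIso ((Scheme.Modules.pullback i).map L) := by
    rw [← biprod.lift_mapBiprod]
    infer_instance
  haveI : IsIso L := (isIso_iff_stalk L).2 fun y => by
    obtain ⟨x, hx⟩ := exists_specializes hψ hsq y
    exact bijective_stalk_of_special hψ hsq hM hB hBfl L
      ((isIso_iff_stalk ((Scheme.Modules.pullback i).map L)).1 inferInstance x) hx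
  let e : M ⟶ M := L ≫ biprod.fst ≫ biprod.inl ≫ inv L
  have he1 : e = p ≫ biprod.inl ≫ inv L := by simp [e, L]
  have he2 : 𝟙 M - e = p' ≫ biprod.inr ≫ inv L := by
    rw [sub_eq_iff_eq_add, he1, ← Category.assoc p', ← Category.assoc p, ← Preadditive.add_comp,
      IsIso.eq_comp_inv, Category.id_comp]
    exact biprod.hom_ext _ _ (by simp [L]) (by simp [L])
  obtain ⟨Ω, _, _, φ, Xo, o, q, hφ, ho, hover⟩ := exists_generic (f := f) hψ hsq
  letI : Xo.Over (Spec (CommRingCat.of Ω)) := ⟨q⟩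
  haveI : IsProper (Xo ↘ Spec (CommRingCat.of Ω)) := MorphismProperty.of_isPullback (P := @IsProper) ho inferInstance
  haveI := EulerIneqLib.isNoetherian_proper (X := Xo) Ω
  obtain ⟨hred, -, -⟩ := fibre_facts hψ hsq hdim hgi ho
  obtain ⟨hT, hsimp⟩ := hs Ω φ Xo o q hφ ho
  obtain ⟨z₁, hz₁⟩ := hover inferInstance x₁
  obtain ⟨z₂, hz₂⟩ := hover inferInstance x₂
  obtain ⟨c, hc⟩ := hsimp.2 ((Scheme.Modules.pullback o).map e)
  have h0 : ∀ w, stalkLin ((Scheme.Modules.pullback o).map e) z₂ w = 0 := fun w => by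
    rw [he1, Functor.map_comp, stalkLin_comp, LinearMap.comp_apply,
      @Subsingleton.elim _ (subsingleton_stalk_pullback o F z₂ (subsingleton_stalk_of_special hψ hsq hF h₂ hz₂))
        (stalkLin ((Scheme.Modules.pullback o).map p) z₂ w) 0, map_zero]
  have h1 : ∀ w, stalkLin ((Scheme.Modules.pullback o).map e) z₁ w = w := fun w => by
    have hd : stalkLin ((Scheme.Modules.pullback o).map (𝟙 M - e)) z₁ w = 0 := by
      rw [he2, Functor.map_comp, stalkLin_comp, LinearMap.comp_apply,
        @Subsingleton.elim _ (subsingleton_stalk_pullback o F' z₁ (subsingleton_stalk_of_special hψ hsq hF' h₁ hz₁))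
          (stalkLin ((Scheme.Modules.pullback o).map p') z₁ w) 0, map_zero]
    rw [Functor.map_sub, stalkLin_sub, CategoryTheory.Functor.map_id, stalkLin_id, LinearMap.sub_apply,
      LinearMap.id_apply, sub_eq_zero] at hd
    exact hd.symm
  rcases eq_or_ne c 0 with hc0 | hc0
  · refine mem_support_of_tf1 hT z₁ (subsingleton_of_forall_eq 0 fun w => ?_)
    rw [← h1 w, hc, hc0]
    exact (stalkLin_smulMod Ω _ 0 z₁ w).trans (by rw [map_zero, map_zero, zero_smul])
  · refine mem_support_of_tf1 hT z₂ (subsingleton_of_forall_eq 0 fun w => ?_)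
    have h := h0 w
    rw [hc] at h
    exact (((isUnit_iff_ne_zero.2 hc0).map (Coh.toGlobal (Xo ↘ Spec (CommRingCat.of Ω)))).map
      (Xo.presheaf.germ ⊤ z₂ trivial).hom).smul_eq_zero.1 ((stalkLin_smulMod Ω _ c z₂ w).symm.trans h)

end Groth.Agent.TFLangLib
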