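import Groth.Agent.TFLangLib.Family
import Groth.Agent.TFLangLib.Cpl
import Groth.Agent.TFLangLib.Generic

/-!
# A stable decomposing class of modifications contradicts the generic fibre
-/

set_option autoImplicit false
set_option backward.isDefEq.respectTransparency false
set_option backward.isDefEq.respectTransparency.types false
set_option linter.style.haveILetI false

universe u

open CategoryTheory CategoryTheory.Limits AlgebraicGeometry TopologicalSpace Opposite

noncomputable section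

namespace Groth.Agent.TFLangLib

open MeroLib (IsMaxPt)
open PullbackMod TFOneLib DCohLib

/-- Two quotients on the same closed set are isomorphic under the module. -/
theorem exists_iso_quot {X : Scheme.{u}} [IsReduced X] [IsLocallyNoetherian X] {M : X.Modules}
    (hM : TFOne.IsRkOne X M) {Z : Set X} {G G' : X.Modules} {π : M ⟶ G} {π' : M ⟶ G'}
    (hG : TFOne.IsQuotOn X M Z G π) (hG' : TFOne.IsQuotOn X M Z G' π') : ∃ e : G ≅ G', π ≫ e.hom = π' := by
  haveI := hG.2.1.1
  haveI := hG'.2.1.1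
  haveI := hG.1
  haveI := hG'.1
  obtain ⟨g, hg, -⟩ := exists_restrict hM hG hG' fun η _ h => h
  obtain ⟨g', hg', -⟩ := exists_restrict hM hG' hG fun η _ h => h
  exact ⟨⟨g, g', by rw [← cancel_epi π, ← Category.assoc, hg, hg', Category.comp_id],
    by rw [← cancel_epi π', ← Category.assoc, hg', hg, Category.comp_id]⟩, hg⟩

variable {R : Type u} [CommRing R] [IsDomain R] [IsDiscreteValuationRing R] {X : Scheme.{u}}
  {f : X ⟶ Spec (CommRingCat.of R)} [IsProper f] [Flat f] {Xs : Scheme.{u}}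
  [Xs.Over (Spec (CommRingCat.of (IsLocalRing.ResidueField R)))] [IsReduced Xs] {i : Xs ⟶ X}

/-- The predicate is stable under modifications along `Y` and forces decompositions there. -/
def IsStableClass (i : Xs ⟶ X) (Y Y' : Set Xs) (P : X.Modules → Prop) : Prop :=
  ∀ M, P M → ∃ (G G' : Xs.Modules) (π : (Scheme.Modules.pullback i).obj M ⟶ G)
    (π' : (Scheme.Modules.pullback i).obj M ⟶ G'),
    TFOne.IsQuotOn Xs ((Scheme.Modules.pullback i).obj M) Y G π ∧
    TFOne.IsQuotOn Xs ((Scheme.Modules.pullback i).obj M) Y' G' π' ∧ IsIso (biprod.lift π π') ∧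
    P (kernel ((Scheme.Modules.pullbackPushforwardAdjunction i).unit.app M ≫ (Scheme.Modules.pushforward i).map π))

variable {R' : Type u} [CommRing R'] [IsDomain R'] [IsDiscreteValuationRing R'] {φ : R →+* R'}
  {X' : Scheme.{u}} {f' : X' ⟶ Spec (CommRingCat.of R')} {g : X' ⟶ X} [Flat g] [IsProper f']
  {i' : Xs ⟶ X'} {ψ : R' →+* IsLocalRing.ResidueField R}

/-- The flat quotient attached to a stable class, over the completion. -/
theorem exists_quot_of_class [IsAdicComplete (IsLocalRing.maximalIdeal R') R']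
    (hirr : ∀ t, Irreducible t → Irreducible (φ t)) (hψ : Function.Surjective ψ)
    (hsq' : IsPullback i' (Xs ↘ Spec (CommRingCat.of (IsLocalRing.ResidueField R))) f' (Spec.map (CommRingCat.ofHom ψ)))
    (hg : IsPullback g f' f (Spec.map (CommRingCat.ofHom φ))) (hψφ : ψ.comp φ = IsLocalRing.residue R)
    (hsq : IsPullback (i' ≫ g) (Xs ↘ Spec (CommRingCat.of (IsLocalRing.ResidueField R))) f
      (Spec.map (CommRingCat.ofHom (IsLocalRing.residue R))))
    {Xg : Scheme.{u}} {j : Xg ⟶ X} {I M₀ : X.Modules}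
    {Y Y' : Set Xs} (hY' : ∀ η : Xs, IsMaxPt η → (η ∈ Y' ↔ η ∉ Y)) {P : X.Modules → Prop}
    (hP : IsStableClass (i' ≫ g) Y Y' P) (hgood : ∀ M, P M → Good f (i' ≫ g) j I M) (h₀ : P M₀) :
    ∃ (G G' : Xs.Modules) (π : (Scheme.Modules.pullback (i' ≫ g)).obj M₀ ⟶ G)
      (π' : (Scheme.Modules.pullback (i' ≫ g)).obj M₀ ⟶ G') (F : X'.Modules)
      (p : (Scheme.Modules.pullback g).obj M₀ ⟶ F) (e : (Scheme.Modules.pullback i').obj F ≅ G),
      TFOne.IsQuotOn Xs ((Scheme.Modules.pullback (i' ≫ g)).obj M₀) Y G π ∧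
      TFOne.IsQuotOn Xs ((Scheme.Modules.pullback (i' ≫ g)).obj M₀) Y' G' π' ∧ IsIso (biprod.lift π π') ∧
      Epi p ∧ Coh.IsCoh F ∧ FlatMod.IsFlatOver f' F ∧
      (Scheme.Modules.pullback i').map p ≫ e.hom = (Scheme.Modules.pullbackComp i' g).hom.app M₀ ≫ π := by
  classical
  choose G G' π π' hG hG' hdec hnext using hP
  let seq : ℕ → {M : X.Modules // P M} := fun n => Nat.rec ⟨M₀, h₀⟩ (fun _ s => ⟨_, hnext s.1 s.2⟩) n
  obtain ⟨F, p, hp, hF, hFfl, e, he⟩ := exists_limit_quot (Y := Y) (Y' := Y') hirr hψ hsq' hg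
    (hψφ ▸ IsLocalRing.residue_surjective) (hψφ ▸ hsq) (fun n => (seq n).1) (fun n => G _ (seq n).2)
    (fun n => G' _ (seq n).2) (fun n => π _ (seq n).2) (fun n => π' _ (seq n).2)
    (fun n => (hgood _ (seq n).2).coh) (hgood _ h₀).flat (hgood _ h₀).tf (fun n => hG _ (seq n).2)
    (fun n => hG' _ (seq n).2) hY' (fun n => hdec _ (seq n).2) (fun n => rfl)
  exact ⟨G _ h₀, G' _ h₀, π _ h₀, π' _ h₀, F, p, e, hG _ h₀, hG' _ h₀, hdec _ h₀, hp, hF, hFfl, he⟩

omit [Flat g] [IsProper f'] in
/-- The special fibre of the pulled back module. -/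
theorem bijective_special {M₀ : X.Modules} {G : Xs.Modules}
    {π : (Scheme.Modules.pullback (i' ≫ g)).obj M₀ ⟶ G} {F : X'.Modules}
    {p : (Scheme.Modules.pullback g).obj M₀ ⟶ F} (e : (Scheme.Modules.pullback i').obj F ≅ G)
    (he : (Scheme.Modules.pullback i').map p ≫ e.hom = (Scheme.Modules.pullbackComp i' g).hom.app M₀ ≫ π) {x : Xs}
    (hx : Function.Bijective (stalkLin π x)) :
    Function.Bijective (stalkLin ((Scheme.Modules.pullback i').map p) x) := by
  rw [(Iso.eq_comp_inv e).2 he, Category.assoc, stalkLin_comp, stalkLin_comp, LinearMap.coe_comp, LinearMap.coe_comp]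
  exact ((bijective_stalk_iso e.symm x).comp hx).comp
    (bijective_stalk_iso ((Scheme.Modules.pullbackComp i' g).app M₀) x)

section final

variable (hsq : IsPullback i (Xs ↘ Spec (CommRingCat.of (IsLocalRing.ResidueField R))) f
    (Spec.map (CommRingCat.ofHom (IsLocalRing.residue R))))
  (hpure : ∀ C ∈ irreducibleComponents (Xs : Type u), topologicalKrullDim C = 1)
  (hgi : ∀ (C : Set Xs) (hC : C ∈ irreducibleComponents (Xs : Type u)), GeometricallyIntegral
    (VecSt.subschι Xs C (isClosed_of_mem_irreducibleComponents C hC) ≫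
      (Xs ↘ Spec (CommRingCat.of (IsLocalRing.ResidueField R)))))
  {Xg : Scheme.{u}} [Xg.Over (Spec (CommRingCat.of (FractionRing R)))] {j : Xg ⟶ X}
  (hgen : IsPullback j (Xg ↘ Spec (CommRingCat.of (FractionRing R))) f
    (Spec.map (CommRingCat.ofHom (algebraMap R (FractionRing R)))))
  {I M₀ : X.Modules} {Y Y' : Set Xs} (hY' : ∀ η : Xs, IsMaxPt η → (η ∈ Y' ↔ η ∉ Y)) {P : X.Modules → Prop}
  (hP : IsStableClass i Y Y' P) (hgood : ∀ M, P M → Good f i j I M) (h₀ : P M₀) (hYc : IsClosed Y)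
  {E : X.Modules} {r : ℕ} (hE : FlatMod.IsFinLocFreeOfRank r E) {d : ℤ}
  (hχ : Curv2.euler (IsLocalRing.ResidueField R) Xs ((Scheme.Modules.pullback i).obj I) = d)
  (hEd : Curv2.deg (IsLocalRing.ResidueField R) Xs ((Scheme.Modules.pullback i).obj E) r = -(r : ℤ) * d)

include hsq hpure hgi hgen hY' hP hgood h₀ hE hχ hEd hYc in
/-- A stable decomposing class has non-negative number; positive through the section in the quasi-stable case. -/
theorem limit_bound
    (hIg : TFOne.FibSemistable (Xg ↘ Spec (CommRingCat.of (FractionRing R))) ((Scheme.Modules.pullback j).obj I)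
      ((Scheme.Modules.pullback j).obj E) r) :
    0 ≤ beta (IsLocalRing.ResidueField R) ((Scheme.Modules.pullback i).obj E) r
        ((Scheme.Modules.pullback i).obj M₀) Y ∧
    (0 < r → beta (IsLocalRing.ResidueField R) ((Scheme.Modules.pullback i).obj E) r
        ((Scheme.Modules.pullback i).obj M₀) Y ≤ 0 → ∀ x x₂ : Xs, x ∉ Y' → x₂ ∉ Y →
      ∀ (σ : Spec (CommRingCat.of R) ⟶ X), σ ≫ f = 𝟙 _ → σ (IsLocalRing.closedPoint R) = i x →
      ∀ (σg : Spec (CommRingCat.of (FractionRing R)) ⟶ Xg)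
        (hσg : σg ≫ (Xg ↘ Spec (CommRingCat.of (FractionRing R))) = 𝟙 _),
      σg ≫ j = Spec.map (CommRingCat.ofHom (algebraMap R (FractionRing R))) ≫ σ →
      ¬ TFOne.FibQuasistableAlong (Xg ↘ Spec (CommRingCat.of (FractionRing R)))
        ((Scheme.Modules.pullback j).obj I) ((Scheme.Modules.pullback j).obj E) σg hσg r) := by
  obtain ⟨R', _, _, _, φ, X', f', g, i', ψ, _, hφ, hirr, _, _, _, hψ, hsq', hg, hi, hψφ⟩ :=
    exists_completion (f := f) IsLocalRing.residue_surjective hsq
  subst hi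
  haveI := isProper_special hsq
  haveI := EulerIneqLib.isNoetherian_proper (X := Xs) (IsLocalRing.ResidueField R)
  haveI : IsLocallyNoetherian X := LocallyOfFiniteType.isLocallyNoetherian f
  have hdim := dim_special hpure
  obtain ⟨G, G', π, π', F, p, e, hG, hG', hdec, hp, hF, hFfl, he⟩ :=
    exists_quot_of_class hirr hψ hsq' hg hψφ hsq hY' hP hgood h₀
  have hM := hgood M₀ h₀
  haveI := hM.coh.1
  have hEs := PBundleLib.isFinLocFreeOfRank_pullback (i' ≫ g) hE
  have hE' := PBundleLib.isFinLocFreeOfRank_pullback g hE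
  have hχ' := hM.euler.trans hχ
  have tE : ∀ N : Xs.Modules, tw (IsLocalRing.ResidueField R) ((Scheme.Modules.pullback i').obj
      ((Scheme.Modules.pullback g).obj E)) N =
      tw (IsLocalRing.ResidueField R) ((Scheme.Modules.pullback (i' ≫ g)).obj E) N := fun N =>
    CurveLib.euler_iso (K := IsLocalRing.ResidueField R) (((DCoh.tensorBi (X := Xs)).obj N).mapIso ((Scheme.Modules.pullbackComp i' g).app E))
  have hF0 : tw (IsLocalRing.ResidueField R) ((Scheme.Modules.pullback i').obj ((Scheme.Modules.pullback g).obj E))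
      ((Scheme.Modules.pullback i').obj F) = beta (IsLocalRing.ResidueField R)
        ((Scheme.Modules.pullback (i' ≫ g)).obj E) r ((Scheme.Modules.pullback (i' ≫ g)).obj M₀) Y := by
    rw [tE, tw_iso _ e, ← rBeta_eq_tw hdim hEs hM.tf.2.2 hYc hG, beta_eq _ hdim hEs hM.tf hYc hG]
  have hM0 : tw (IsLocalRing.ResidueField R) ((Scheme.Modules.pullback i').obj ((Scheme.Modules.pullback g).obj E))
      ((Scheme.Modules.pullback i').obj ((Scheme.Modules.pullback g).obj M₀)) = 0 := by
    rw [tE]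
    refine (tw_iso _ ((Scheme.Modules.pullbackComp i' g).app M₀)).trans ?_
    rw [← rBeta_eq_tw hdim hEs hM.tf.2.2 isClosed_univ (isQuotOn_univ hM.tf), rBeta_univ hdim hEs hχ' hEd]
  haveI : IsLocallyNoetherian X' := LocallyOfFiniteType.isLocallyNoetherian f'
  obtain ⟨hb, hq⟩ := exists_generic_bound (f := f') hψ hsq' hdim hgi (PullbackMod.isCoh_pullback g M₀ hM.coh)
    (fun y => PullbackMod.isFlatOverAt_baseChange hg M₀ y (hM.flat (g y))) hF hFfl p hE' hM0
    (fun Ω _ _ φ' Xo o q hφ' ho => by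
      haveI : IsProper q := MorphismProperty.of_isPullback (P := @IsProper) ho inferInstance
      exact isSemistable_iso q ((Scheme.Modules.pullbackComp o g).app M₀) ((Scheme.Modules.pullbackComp o g).app E)
        (hM.gen_semistable hgen (φ := φ'.comp φ) (hφ'.comp hφ)
          (by rw [CommRingCat.ofHom_comp, Spec.map_comp]; exact ho.paste_horiz hg) hIg))
  rw [hF0] at hb hq
  refine ⟨hb, fun hr h0 x x₂ hx hx₂ σ hσ hσx σg hσg hσgj hIgq => ?_⟩
  obtain ⟨t, ht⟩ := IsDiscreteValuationRing.exists_irreducible R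
  let s := Spec.map (CommRingCat.ofHom φ)
  let σ' : Spec (CommRingCat.of R') ⟶ X' := hg.lift (s ≫ σ) (𝟙 _) (by
    rw [Category.assoc, hσ, Category.comp_id, Category.id_comp])
  have hσ'1 : σ' ≫ g = s ≫ σ := hg.lift_fst _ _ _
  have hσ'2 : σ' ≫ f' = 𝟙 _ := hg.lift_snd _ _ _
  have hs0 : s (IsLocalRing.closedPoint R') = IsLocalRing.closedPoint R := by
    refine PrimeSpectrum.ext ((IsLocalRing.maximalIdeal.isMaximal R).eq_of_le (s _).2.ne_top ?_).symm
    rw [ht.maximalIdeal_eq, Ideal.span_singleton_le_iff_mem]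
    exact (hirr t ht).not_isUnit
  have hσ'x : σ' (IsLocalRing.closedPoint R') = i' x := by
    obtain ⟨x', hx'⟩ := (mem_range_iff hψ hsq').2 (show f' (σ' (IsLocalRing.closedPoint R')) = IsLocalRing.closedPoint R' by
      rw [← Scheme.Hom.comp_apply, hσ'2]; rfl)
    haveI := isClosedImmersion_special hsq
    have : x' = x := (i' ≫ g).isClosedEmbedding.injective (by
      rw [Scheme.Hom.comp_apply, hx', ← Scheme.Hom.comp_apply, hσ'1, Scheme.Hom.comp_apply, hs0, hσx])
    rw [← hx', this]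
  have hG'0 : Subsingleton (G'.presheaf.stalk x) := (subsingleton_stalk_iff G' x).2 (by rw [hG'.2.2.2]; exact hx)
  haveI := hG.1
  have hbπ : Function.Bijective (stalkLin π x) := by
    refine ⟨(injective_iff_map_eq_zero _).2 fun z hz => ((isIso_iff_stalk (biprod.lift π π')).1 hdec x).1 ?_,
      (epi_iff_stalk π).1 inferInstance x⟩
    rw [map_zero]
    exact biprod_ext_stalk x ((stalkLin_eq_of_comp (biprod.lift_fst π π') x z).trans hz) (Subsingleton.elim _ _)
  have hG0 : Subsingleton (G.presheaf.stalk x₂) := (subsingleton_stalk_iff G x₂).2 (by rw [hG.2.2.2]; exact hx₂)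
  refine hq hr h0 x x₂ (bijective_special e he hbπ) ((bijective_stalk_iso e x₂).1.subsingleton) σ' hσ'2 hσ'x ?_
  intro Ω _ _ φ' Xo o q hφ' ho y hy hy'
  haveI : IsProper q := MorphismProperty.of_isPullback (P := @IsProper) ho inferInstance
  exact isQuasistableAtPt_iso q ((Scheme.Modules.pullbackComp o g).app M₀) ((Scheme.Modules.pullbackComp o g).app E)
    (hM.gen_quasistable hgen (φ := φ'.comp φ) (hφ'.comp hφ)
      (by rw [CommRingCat.ofHom_comp, Spec.map_comp]; exact ho.paste_horiz hg) hσgj hIgq y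
      (by rw [← Category.assoc, hy, Category.assoc, hσ'1, ← Category.assoc, CommRingCat.ofHom_comp, Spec.map_comp])
      hy')

include hsq hpure hgi hgen hY' hP hgood h₀ in
/-- Stable classes in both directions contradict simplicity of the generic fibre. -/
theorem limit_simple {P' : X.Modules → Prop} (hP' : IsStableClass i Y' Y P') (hgood' : ∀ M, P' M → Good f i j I M)
    (h₀' : P' M₀) {x₁ x₂ : Xs} (hx₁ : x₁ ∉ Y') (hx₂ : x₂ ∉ Y) (hI : TFOne.IsRelTF1 f I)
    (hIg : TFOne.FibSimple (Xg ↘ Spec (CommRingCat.of (FractionRing R))) ((Scheme.Modules.pullback j).obj I)) :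
    False := by
  obtain ⟨R', _, _, _, φ, X', f', g, i', ψ, _, hφ, hirr, _, _, _, hψ, hsq', hg, hi, hψφ⟩ :=
    exists_completion (f := f) IsLocalRing.residue_surjective hsq
  subst hi
  haveI := isProper_special hsq
  haveI := EulerIneqLib.isNoetherian_proper (X := Xs) (IsLocalRing.ResidueField R)
  haveI : IsLocallyNoetherian X := LocallyOfFiniteType.isLocallyNoetherian f
  haveI : IsLocallyNoetherian X' := LocallyOfFiniteType.isLocallyNoetherian f'
  obtain ⟨G, G', π, π', F, p, e, hG, hG', hdec, hp, hF, hFfl, he⟩ :=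
    exists_quot_of_class hirr hψ hsq' hg hψφ hsq hY' hP hgood h₀
  obtain ⟨G₁, G₁', π₁, π₁', F', p', e', hG₁, -, -, -, hF', hF'fl, he'⟩ :=
    exists_quot_of_class (Y := Y') (Y' := Y) hirr hψ hsq' hg hψφ hsq
      (fun η hη => by rw [hY' η hη, not_not]) hP' hgood' h₀'
  have hM := hgood M₀ h₀
  haveI := hM.coh.1
  obtain ⟨u, hu⟩ := exists_iso_quot hM.tf.2.2 hG₁ hG'
  haveI := hdec
  haveI : IsIso (biprod.lift ((Scheme.Modules.pullback i').map p) ((Scheme.Modules.pullback i').map p')) := by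
    have h : biprod.lift ((Scheme.Modules.pullback i').map p) ((Scheme.Modules.pullback i').map p') ≫
        biprod.map e.hom (e'.hom ≫ u.hom) =
        (Scheme.Modules.pullbackComp i' g).hom.app M₀ ≫ biprod.lift π π' := by
      refine biprod.hom_ext _ _ ?_ ?_
      · simp [he]
      · simp only [Category.assoc, biprod.map_snd, biprod.lift_snd, biprod.lift_snd_assoc]
        rw [← Category.assoc, he', Category.assoc, hu]
    haveI : IsIso (biprod.map e.hom (e'.hom ≫ u.hom)) := (biprod.mapIso e (e' ≪≫ u)).isIso_hom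
    rw [(IsIso.eq_comp_inv (biprod.map e.hom (e'.hom ≫ u.hom))).2 h]
    infer_instance
  have h1 : Subsingleton (G₁.presheaf.stalk x₁) := (subsingleton_stalk_iff G₁ x₁).2 (by rw [hG₁.2.2.2]; exact hx₁)
  have h2 : Subsingleton (G.presheaf.stalk x₂) := (subsingleton_stalk_iff G x₂).2 (by rw [hG.2.2.2]; exact hx₂)
  refine false_of_simple (f := f') hψ hsq' (dim_special hpure) hgi (PullbackMod.isCoh_pullback g M₀ hM.coh)
    hF hFfl p hF' hF'fl p' ((bijective_stalk_iso e' x₁).1.subsingleton) ((bijective_stalk_iso e x₂).1.subsingleton) ?_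
  intro Ω _ _ φ' Xo o q hφ' ho
  have ho' : IsPullback (o ≫ g) q f (Spec.map (CommRingCat.ofHom (φ'.comp φ))) := by
    rw [CommRingCat.ofHom_comp, Spec.map_comp]; exact ho.paste_horiz hg
  exact ⟨isTF1_iso ((Scheme.Modules.pullbackComp o g).app M₀) (hM.gen_tf1 hgen (hφ'.comp hφ) ho' hI),
    isSimple_iso q ((Scheme.Modules.pullbackComp o g).app M₀) (hM.gen_simple hgen (hφ'.comp hφ) ho' hIg)⟩

end final

end Groth.Agent.TFLangLib
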