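import Groth.Agent.TFLangLib.Fibre
import Groth.Agent.TFLangLib.GenFibre
import Groth.Agent.TFLangLib.Iso
import Groth.Agent.FibreDepth.Loci
import Groth.Agent.CurveLib.GlobalFun
import Mathlib.RingTheory.Flat.FaithfullyFlat.Algebra

/-!
# Relatively torsion-free modules on a family over a discrete valuation ring
-/

set_option autoImplicit false
set_option backward.isDefEq.respectTransparency false
set_option linter.style.haveILetI false

universe u

open CategoryTheory CategoryTheory.Limits AlgebraicGeometry TopologicalSpace Opposite TensorProduct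

noncomputable section

namespace Groth.Agent.TFLangLib

open MeroLib (IsMaxPt)
open PullbackMod TFOneLib DCohLib

theorem isCoh_of_isFP' {X : Scheme.{u}} {M : X.Modules} (h : CohB1.IsFP M) : Coh.IsCoh M :=
  haveI : SheafOfModules.IsFinitePresentation.{u} M := h
  ⟨FibreDepth.isQCoh_of_isFP M h, inferInstance⟩

/-- Torsion-free of rank one descends along an extension of the field. -/
theorem isTF1_descend {κ : Type u} [Field κ] {X : Scheme.{u}} [X.Over (Spec (CommRingCat.of κ))] [IsReduced X]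
    [IsLocallyNoetherian X] {L : Type u} [Field L] {φ : κ →+* L} {Y : Scheme.{u}}
    [Y.Over (Spec (CommRingCat.of L))] {q : Y ⟶ X}
    (hq : IsPullback q (Y ↘ Spec (CommRingCat.of L)) (X ↘ Spec (CommRingCat.of κ))
      (Spec.map (CommRingCat.ofHom φ))) {N : X.Modules} (hN : Coh.IsCoh N)
    (h : TFOne.IsTF1 Y ((Scheme.Modules.pullback q).obj N)) : TFOne.IsTF1 X N := by
  haveI := flat_bc hq
  haveI := hN.1
  refine ⟨hN, fun x => ?_, fun ξ hξ => ?_⟩
  · obtain ⟨y, rfl⟩ := surjective_bc hq x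
    letI : Algebra (X.presheaf.stalk (q y)) (Y.presheaf.stalk y) := (q.stalkMap y).hom.toAlgebra
    haveI := faithfullyFlat_stalk q y
    obtain ⟨e, -⟩ := exists_pullback_stalk_equiv q N y
    haveI := h.2.1 y
    refine ⟨fun a ha => ?_⟩
    have haB : IsRegular (algebraMap (X.presheaf.stalk (q y)) (Y.presheaf.stalk y) a) := by
      have h1 : IsSMulRegular (Y.presheaf.stalk y) a :=
        Module.Flat.isSMulRegular_of_nonZeroDivisors (isRegular_iff_mem_nonZeroDivisors.1 ha)
      rw [isRegular_iff_mem_nonZeroDivisors, mem_nonZeroDivisors_iff_right]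
      intro b hb
      refine h1 ?_
      show a • b = a • 0
      rw [smul_zero, Algebra.smul_def, mul_comm]
      exact hb
    refine IsSMulRegular.of_right_eq_zero_of_smul fun z hz => ?_
    refine Module.FaithfullyFlat.tensorProduct_mk_injective (A := X.presheaf.stalk (q y))
      (B := Y.presheaf.stalk y) (N.presheaf.stalk (q y)) ?_
    rw [map_zero]
    refine e.injective ?_
    rw [map_zero]
    refine haB.isSMulRegular (M := ((Scheme.Modules.pullback q).obj N).presheaf.stalk y) ?_
    show algebraMap _ _ a • e _ = algebraMap _ _ a • (0 : ((Scheme.Modules.pullback q).obj N).presheaf.stalk y)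
    rw [smul_zero, ← map_smul, TensorProduct.mk_apply, TensorProduct.smul_tmul', Algebra.algebraMap_eq_smul_one,
      smul_assoc, one_smul, TensorProduct.smul_tmul, hz, TensorProduct.tmul_zero, map_zero]
  · have hξ' := (isMaxPt_iff_genericPoints ξ).2 hξ
    obtain ⟨η, hη, rfl⟩ := exists_maxPt_over hq hξ'
    letI : Algebra (X.presheaf.stalk (q η)) (Y.presheaf.stalk η) := (q.stalkMap η).hom.toAlgebra
    letI := (MeroLib.isField_stalk hξ').toField
    haveI := faithfullyFlat_stalk q η
    haveI := finite_stalk_of_isFT hN.2 (q η)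
    obtain ⟨e, -⟩ := exists_pullback_stalk_equiv q N η
    obtain ⟨ψ⟩ := h.2.2 η ((isMaxPt_iff_genericPoints η).1 hη)
    refine FiniteDimensional.nonempty_linearEquiv_of_finrank_eq ?_
    rw [Module.finrank_self, ← Module.finrank_baseChange (R := Y.presheaf.stalk η), (e ≪≫ₗ ψ).finrank_eq,
      Module.finrank_self]

/-- Through a point of an open set smooth over a field passes a single component. -/
theorem eq_of_specializes_of_smooth {κ : Type u} [Field κ] {X : Scheme.{u}} [X.Over (Spec (CommRingCat.of κ))]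
    (V : X.Opens) [Smooth (V.ι ≫ (X ↘ Spec (CommRingCat.of κ)))] {x η₁ η₂ : X} (hx : x ∈ V)
    (h₁ : IsMaxPt η₁) (h₂ : IsMaxPt η₂) (hs₁ : η₁ ⤳ x) (hs₂ : η₂ ⤳ x) : η₁ = η₂ := by
  letI : (V : Scheme.{u}).Over (Spec (CommRingCat.of κ)) := ⟨V.ι ≫ (X ↘ Spec (CommRingCat.of κ))⟩
  haveI : Smooth ((V : Scheme.{u}) ↘ Spec (CommRingCat.of κ)) := ‹Smooth _›
  haveI := CurveLib.isRegularLocalRing_stalk_of_smooth (X := (V : Scheme.{u})) (k := κ) ⟨x, hx⟩
  haveI := RegLocal.isDomain ((V : Scheme.{u}).presheaf.stalk ⟨x, hx⟩)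
  haveI : IsIso (V.ι.stalkMap ⟨x, hx⟩) := inferInstance
  haveI : IsDomain (X.presheaf.stalk x) :=
    (asIso (V.ι.stalkMap ⟨x, hx⟩)).commRingCatIsoToRingEquiv.toMulEquiv.isDomain _
  let γ := X.fromSpecStalk x ⟨⊥, Ideal.isPrime_bot⟩
  have hγ : ∀ η, IsMaxPt η → η ⤳ x → γ = η := fun η hη hs => by
    obtain ⟨P, rfl⟩ : η ∈ Set.range (X.fromSpecStalk x) := Scheme.range_fromSpecStalk.ge hs
    exact hη γ (((PrimeSpectrum.le_iff_specializes ⟨⊥, Ideal.isPrime_bot⟩ P).1 bot_le).map
      (X.fromSpecStalk x).continuous)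
  rw [← hγ η₁ h₁ hs₁, ← hγ η₂ h₂ hs₂]

end Groth.Agent.TFLangLib
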